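import Groth.Agent.ResPerf.Final

/-!
Roofs and homotopies between strictly perfect complexes.
-/

set_option autoImplicit false
set_option backward.isDefEq.respectTransparency false
set_option backward.isDefEq.respectTransparency.types false
set_option linter.style.haveILetI false
set_option maxHeartbeats 1000000

universe u

open CategoryTheory Limits Pretriangulated AlgebraicGeometry HomologicalComplex ZeroObject
open CochainComplex.HomComplex (Cochain Cocycle δ)

attribute [local instance] HasDerivedCategory.standard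

noncomputable section

namespace Groth.Agent.ResPerf

variable {X : Scheme.{u}} [CompactSpace X] [QuasiSeparatedSpace X] (hX : PerfAux.HasResolutionProperty X)

include hX in
theorem exists_isStrictlyPerfect_iso (K : DCoh.D X) (hK : DCoh.IsPerfect K) :
    ∃ E : CochainComplex X.Modules ℤ, DCoh.IsStrictlyPerfect E ∧ Nonempty (DCoh.toD X E ≅ K) := by
  obtain ⟨G, γ, -, hG, -⟩ := exists_strictlyPerfect hX K hK 0
    (fun i => DQCoh.isQCoh_of_isZero ((HomologicalComplex.eval X.Modules (ComplexShape.up ℤ) i).map_isZero (isZero_zero _)))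
    ⟨0, fun i _ => (HomologicalComplex.eval X.Modules (ComplexShape.up ℤ) i).map_isZero (isZero_zero _)⟩ 0
  exact ⟨G, hG, ⟨γ⟩⟩

include hX in
theorem exists_quasiIso_to (F : CochainComplex X.Modules ℤ) (hFb : ∃ a : ℤ, ∀ n : ℤ, n < a → IsZero (F.X n))
    (hFq : ∀ n : ℤ, Coh.IsQCoh (F.X n)) (hF : DCoh.IsPerfect (DCoh.toD X F)) :
    ∃ (E : CochainComplex X.Modules ℤ) (φ : E ⟶ F), DCoh.IsStrictlyPerfect E ∧ QuasiIso φ := by
  obtain ⟨G, γ, h, hG, hh⟩ := exists_strictlyPerfect hX _ hF F hFq hFb (𝟙 _)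
  refine ⟨G, h, hG, (DerivedCategory.isIso_Q_map_iff_quasiIso _ h).1 ?_⟩
  rw [hh, Category.comp_id]
  infer_instance

include hX in
theorem exists_roof (E F : CochainComplex X.Modules ℤ) (hE : DCoh.IsStrictlyPerfect E)
    (hF : DCoh.IsStrictlyPerfect F) (α : DCoh.toD X E ⟶ DCoh.toD X F) :
    ∃ (G : CochainComplex X.Modules ℤ) (g : G ⟶ E) (h : G ⟶ F), DCoh.IsStrictlyPerfect G ∧ QuasiIso g ∧
      DerivedCategory.Q.map g ≫ α = DerivedCategory.Q.map h := by
  obtain ⟨⟨a, b, hab⟩, hEl⟩ := id hE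
  obtain ⟨⟨a', b', hab'⟩, hFl⟩ := id hF
  let e : ∀ i, (E ⊞ F).X i ≅ E.X i ⊞ F.X i := fun i =>
    (HomologicalComplex.eval X.Modules (ComplexShape.up ℤ) i).mapBiprod E F
  obtain ⟨G, γ, h, hG, hh⟩ := exists_strictlyPerfect hX _ (isPerfect_of_isStrictlyPerfect hE) (E ⊞ F)
    (fun i => QC.isQCoh_of_iso (e i).symm
      (RPushQC.isQCoh_biprod (LocFree.isQCoh_of_isFinLocFree (hEl i)) (LocFree.isQCoh_of_isFinLocFree (hFl i))))
    ⟨min a a', fun i hi => IsZero.of_iso ((biprod_isZero_iff _ _).2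
      ⟨hab i (Or.inl (by omega)), hab' i (Or.inl (by omega))⟩) (e i)⟩
    (DerivedCategory.Q.map biprod.inl + α ≫ DerivedCategory.Q.map biprod.inr)
  have h1 : DerivedCategory.Q.map (h ≫ biprod.fst) = γ.hom := by
    rw [Functor.map_comp, hh, Category.assoc, Preadditive.add_comp, Category.assoc, ← Functor.map_comp,
      ← Functor.map_comp]
    simp
  refine ⟨G, h ≫ biprod.fst, h ≫ biprod.snd, hG, (DerivedCategory.isIso_Q_map_iff_quasiIso _ _).1 ?_, ?_⟩
  · rw [h1]; infer_instance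
  · rw [h1, Functor.map_comp, hh, Category.assoc, Preadditive.add_comp, Category.assoc, ← Functor.map_comp,
      ← Functor.map_comp]
    simp

include hX in
theorem exists_homotopy (E F : CochainComplex X.Modules ℤ) (hE : DCoh.IsStrictlyPerfect E)
    (hF : DCoh.IsStrictlyPerfect F) (α β : E ⟶ F)
    (hαβ : DerivedCategory.Q.map α = DerivedCategory.Q.map β) :
    ∃ (G : CochainComplex X.Modules ℤ) (γ : G ⟶ E), DCoh.IsStrictlyPerfect G ∧ QuasiIso γ ∧
      Nonempty (Homotopy (γ ≫ α) (γ ≫ β)) := by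
  let φ := α - β
  obtain ⟨σ, hσ⟩ := Triangle.coyoneda_exact₂ _ (DerivedCategory.mappingCocone_triangle_distinguished φ)
    (𝟙 (DCoh.toD X E)) (by
      change 𝟙 _ ≫ DerivedCategory.Q.map (α - β) = 0
      rw [Functor.map_sub, hαβ, sub_self, comp_zero])
  obtain ⟨⟨a, b, hab⟩, hEl⟩ := id hE
  obtain ⟨⟨a', b', hab'⟩, hFl⟩ := id hF
  let e : ∀ i, (CochainComplex.mappingCocone φ).X i ≅ E.X (i + -1 + 1) ⊞ F.X (i + -1) := fun i =>
    HomologicalComplex.homotopyCofiber.XIsoBiprod φ (i + -1) (i + -1 + 1) rfl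
  obtain ⟨G, γ, h, hG, hh⟩ := exists_strictlyPerfect hX _ (isPerfect_of_isStrictlyPerfect hE)
    (CochainComplex.mappingCocone φ)
    (fun i => QC.isQCoh_of_iso (e i).symm
      (RPushQC.isQCoh_biprod (LocFree.isQCoh_of_isFinLocFree (hEl _)) (LocFree.isQCoh_of_isFinLocFree (hFl _))))
    ⟨min a a', fun i hi => IsZero.of_iso ((biprod_isZero_iff _ _).2
      ⟨hab _ (Or.inl (by omega)), hab' _ (Or.inl (by omega))⟩) (e i)⟩ σ
  let g := h ≫ CochainComplex.mappingCocone.fst φ
  have hg : DerivedCategory.Q.map g = γ.hom := by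
    rw [Functor.map_comp, hh, Category.assoc]
    exact (congrArg (γ.hom ≫ ·) hσ.symm).trans (Category.comp_id _)
  refine ⟨G, g, hG, (DerivedCategory.isIso_Q_map_iff_quasiIso _ _).1 (by rw [hg]; infer_instance), ⟨?_⟩⟩
  let s : Cochain (CochainComplex.mappingCocone φ) F (-1) :=
    CochainComplex.mappingCocone.descCochain φ (0 : Cochain E F (-1)) (Cochain.ofHom (𝟙 F)) (neg_add_cancel 1)
  refine (Cochain.equivHomotopy (g ≫ α) (g ≫ β)).symm ⟨-((Cochain.ofHom h).comp s (zero_add (-1))), ?_⟩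
  have hs : δ (-1) 0 s = -Cochain.ofHom (CochainComplex.mappingCocone.fst φ ≫ φ) := by
    simp [s, CochainComplex.mappingCocone.δ_descCochain φ _ _ _ 1 (zero_add 1)]
  rw [CochainComplex.HomComplex.δ_neg, CochainComplex.HomComplex.δ_ofHom_comp, hs, Cochain.comp_neg, neg_neg,
    ← Cochain.ofHom_comp, ← Cochain.ofHom_add]
  congr 1
  simp [g, φ, Preadditive.comp_sub]

end Groth.Agent.ResPerf
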