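import Groth.Agent.DQCoh.Affine
import Groth.Agent.GrT.TwistEpi
import Groth.Prelude.Def_FlatMod2

/-!
On affine schemes derived maps out of free modules surject onto maps into the zeroth cohomology.
-/

set_option autoImplicit false
set_option backward.isDefEq.respectTransparency false
set_option backward.isDefEq.respectTransparency.types false
set_option linter.style.haveILetI false

universe u

open CategoryTheory Limits AlgebraicGeometry Opposite

attribute [local instance] HasDerivedCategory.standard
attribute [local instance] Abelian.hasFiniteBiproducts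

noncomputable section

namespace Groth.Agent.ResPerf

variable (X : Scheme.{u})

/-- the representing object of global sections -/
abbrev topP : X.Modules := (HDU.modData X.sheaf).P (⊤ : X.Opens)

/-- to the structure module -/
def topToO : topP X ⟶ Coh.structureModule X :=
  (HDU.modSec X.sheaf (⊤ : X.Opens) (Coh.structureModule X)).symm (show Γ(X, ⊤) from 1)

/-- its global section -/
def topSec : Γ(topP X, ⊤) := HDU.modSec X.sheaf (⊤ : X.Opens) (topP X) (𝟙 _)

lemma topToO_topSec : (topToO X).app ⊤ (topSec X) = (show Γ(X, ⊤) from 1) :=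
  (HDU.modSec_comp X.sheaf (U := (⊤ : X.Opens)) (𝟙 (topP X)) (topToO X)).symm.trans
    ((congrArg (HDU.modSec X.sheaf (⊤ : X.Opens) (Coh.structureModule X)) (Category.id_comp _)).trans
      ((HDU.modSec X.sheaf (⊤ : X.Opens) (Coh.structureModule X)).apply_symm_apply _))

/-- global sections are represented by the structure module -/
def topIso : topP X ≅ Coh.structureModule X where
  hom := topToO X
  inv := GrT.homOfSection (topP X) (topSec X)
  hom_inv_id := by
    refine (HDU.modSec X.sheaf (⊤ : X.Opens) (topP X)).injective ?_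
    refine (HDU.modSec_comp X.sheaf (U := (⊤ : X.Opens)) (topToO X) (GrT.homOfSection (topP X) (topSec X))).trans ?_
    have h1 : HDU.modSec X.sheaf (⊤ : X.Opens) (Coh.structureModule X) (topToO X) = (show Γ(X, ⊤) from 1) :=
      (HDU.modSec X.sheaf (⊤ : X.Opens) (Coh.structureModule X)).apply_symm_apply _
    rw [h1]
    change (GrT.homOfSection (topP X) (topSec X)).app ⊤ (1 : Γ(X, ⊤)) = topSec X
    refine (GrT.homOfSection_app (topP X) (topSec X) ⊤ 1).trans ?_
    erw [one_smul, QC.res_self]
  inv_hom_id := by
    refine Scheme.Modules.hom_ext _ _ fun W => ?_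
    ext c
    change (topToO X).app W ((show Γ(X, W) from c) • QC.res (topP X) le_top (topSec X)) = c
    rw [Scheme.Modules.Hom.app_smul, ← QC.app_res, topToO_topSec]
    change (show Γ(X, W) from c) * (X.presheaf.map (homOfLE (le_top : W ≤ ⊤)).op) 1 = c
    rw [map_one, mul_one]

variable {X} [IsAffine X]

/-- maps from a finite free module into zeroth cohomology lift -/
theorem exists_lift_free (N : DCoh.D X) (hN : DCoh.IsQCohD N) {n : ℕ} (p : FlatMod.freeMod X n ⟶ DCoh.HD N 0) :
    ∃ u : DCoh.inD X (FlatMod.freeMod X n) ⟶ N, HDU.toH0 u = p := by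
  let S := DerivedCategory.singleFunctor X.Modules 0
  have h1 : ∀ (v : Coh.structureModule X ⟶ DCoh.HD N 0),
      ∃ w : DCoh.inD X (Coh.structureModule X) ⟶ N, HDU.toH0 w = v := fun v => by
    obtain ⟨x, hx⟩ := (DQCoh.toH0_bijective_affine N hN ⊤ (isAffineOpen_top X)).2 ((topIso X).hom ≫ v)
    refine ⟨S.map (topIso X).inv ≫ x, ?_⟩
    rw [HDU.toH0_precomp]
    exact (congrArg ((topIso X).inv ≫ ·) hx).trans (Iso.inv_hom_id_assoc (topIso X) v)
  let O : Fin n → X.Modules := fun _ => Coh.structureModule X
  choose w hw using fun l : Fin n => h1 (Sigma.ι O l ≫ p)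
  haveI : S.Additive := inferInstance
  haveI : PreservesFiniteCoproducts S := Functor.preservesFiniteCoproductsOfAdditive S
  refine ⟨(PreservesCoproduct.iso S O).hom ≫ Sigma.desc w, Sigma.hom_ext _ _ fun l => ?_⟩
  rw [← HDU.toH0_precomp, ← hw l]
  refine congrArg HDU.toH0 ?_
  have hι : S.map (Sigma.ι O l) ≫ (PreservesCoproduct.iso S O).hom = Sigma.ι (fun b => S.obj (O b)) l := by
    rw [← cancel_mono (PreservesCoproduct.iso S O).inv, Category.assoc, Iso.hom_inv_id, Category.comp_id,
      PreservesCoproduct.inv_hom]
    exact (ι_comp_sigmaComparison S O l).symm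
  exact (Category.assoc _ _ _).symm.trans ((congrArg (· ≫ Sigma.desc w) hι).trans (Sigma.ι_desc _ _))

end Groth.Agent.ResPerf
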