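import Groth.Agent.ResPerf.ExtendOpen
import Groth.Agent.GrT.TwistEpi
import Groth.Agent.DerQC.Adj
import Groth.Agent.DerPerf.Tensor
import Groth.Agent.K0Perf.Instances
import Groth.Agent.ResPerf.FreeLift
import Mathlib.CategoryTheory.Limits.Constructions.EventuallyConstant
import Mathlib.Algebra.Homology.HomologicalComplexLimits

/-!
Pseudo-coherent objects on quasi-compact opens of affine schemes extend to complexes of finite free modules.
-/

set_option autoImplicit false
set_option backward.isDefEq.respectTransparency false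
set_option backward.isDefEq.respectTransparency.types false
set_option linter.style.haveILetI false
set_option maxHeartbeats 1000000

universe u

open CategoryTheory Limits Pretriangulated AlgebraicGeometry HomologicalComplex ZeroObject

attribute [local instance] HasDerivedCategory.standard

noncomputable section

namespace Groth.Agent.ResPerf

open Groth.Agent.DQCoh (MIsoD IsAboveD RD rC rdIso)

variable {X : Scheme.{u}}

local notation "S1" => CategoryTheory.shiftFunctor (DCoh.D X) (1 : ℤ)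

/-- finite free -/
def IsFree (M : X.Modules) : Prop := ∃ n : ℕ, Nonempty (M ≅ FlatMod.freeMod X n)

lemma isZero_freeMod_zero (X : Scheme.{u}) : IsZero (FlatMod.freeMod X 0) :=
  (IsZero.iff_id_eq_zero _).2 (Sigma.hom_ext _ _ fun i => i.elim0)

lemma isFree_of_isZero {M : X.Modules} (h : IsZero M) : IsFree M := ⟨0, ⟨h.iso (isZero_freeMod_zero X)⟩⟩

lemma isFree_biprod {A B : X.Modules} (hA : IsFree A) (hB : IsFree B) : IsFree (A ⊞ B) :=
  DerPerf.exists_iso_free (M := pairFunction A B) (fun j => by cases j <;> assumption)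
    (c := (BinaryBiproduct.bicone A B).toCocone) (BinaryBiproduct.isColimit A B)

lemma isFinLocFree_freeMod (X : Scheme.{u}) (n : ℕ) : FlatMod.IsFinLocFree (FlatMod.freeMod X n) :=
  DerPerf.isFinLocFree_iff_isFreeOn.2 fun _ => ⟨⊤, trivial, n, ⟨DerPerf.pullFreeIso _ n⟩⟩

lemma isFree_isFinLocFree {M : X.Modules} (h : IsFree M) : FlatMod.IsFinLocFree M :=
  let ⟨n, ⟨e⟩⟩ := h; DQCoh.isFinLocFree_of_iso' e.symm (isFinLocFree_freeMod X n)

/-- on an affine scheme modules of finite type are quotients of finite free ones -/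
theorem exists_epi_free [IsAffine X] (M : X.Modules) (hM : Coh.IsQCoh M) (hFT : CohB1.IsFT M) :
    ∃ (n : ℕ) (p : FlatMod.freeMod X n ⟶ M), Epi p := by
  classical
  haveI : M.IsQuasicoherent := hM
  obtain ⟨T, hT⟩ := (QC.finite_sections (isAffineOpen_top X) (M := M) hFT).fg_top
  let e : Fin T.card → Γ(M, ⊤) := fun l => (T.equivFin.symm l : Γ(M, ⊤))
  refine ⟨T.card, Sigma.desc fun l => GrT.homOfSection M (e l), Preadditive.epi_of_cancel_zero _ fun g hg => ?_⟩
  refine ResDesc.cancel_zero_of_span hM (fun _ : Unit => (⊤ : X.Opens)) (fun _ => isAffineOpen_top X)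
    (fun x => ⟨(), trivial⟩) (fun _ => (T : Set Γ(M, ⊤))) (fun _ => hT) g fun _ y hy => ?_
  have h1 : GrT.homOfSection M (e (T.equivFin ⟨y, hy⟩)) ≫ g = 0 := by
    have h := Sigma.ι (fun _ : Fin T.card => Coh.structureModule X) (T.equivFin ⟨y, hy⟩) ≫= hg
    rw [← Category.assoc, Sigma.ι_desc, comp_zero] at h
    exact h
  refine Eq.trans ?_ (congr(($h1).app ⊤ (1 : Γ(X, ⊤))))
  refine congrArg (g.app ⊤) ?_
  refine Eq.trans ?_ (GrT.homOfSection_app M (e (T.equivFin ⟨y, hy⟩)) ⊤ 1).symm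
  erw [one_smul, QC.res_self]
  simp [e]

variable [IsAffine X] {U : X.Opens} (J : CochainComplex X.Modules ℤ) (B : ℤ)

/-- a stage of the construction -/
structure St (U : X.Opens) (J : CochainComplex X.Modules ℤ) (B : ℤ) (n : ℤ) where
  /-- the complex -/
  G : CochainComplex X.Modules ℤ
  /-- the map -/
  h : G ⟶ J
  free : ∀ i, IsFree (G.X i)
  low : ∀ i, i < n → IsZero (G.X i)
  high : ∀ i, B < i → IsZero (G.X i)
  miso : MIsoD n ((RD U.ι).map (DerivedCategory.Q.map h))

lemma St.sp {n : ℤ} (s : St U J B n) : DCoh.IsStrictlyPerfect s.G :=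
  ⟨⟨n, B, fun i hi => hi.elim (s.low i) (s.high i)⟩, fun i => isFree_isFinLocFree (s.free i)⟩

variable {J B}

/-- the next stage extends the previous one -/
def St.Ext {n : ℤ} (s : St U J B (n + 1)) (s' : St U J B n) : Prop :=
  ∃ j : s.G ⟶ s'.G, j ≫ s'.h = s.h ∧ ∀ i, n < i → IsIso (j.f i)

theorem St.exists_next [CompactSpace (U : Scheme.{u})] [J.IsKInjective] (hJ : DCoh.IsQCohD (DerivedCategory.Q.obj J))
    (hpc : ∀ m, DCoh.IsPseudoCoherentD m ((RD U.ι).obj (DerivedCategory.Q.obj J))) (b : ℤ) (hb : b < B)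
    (s : St U J B (b + 1)) : ∃ s' : St U J B b, s.Ext s' := by
  have hX := K0Perf.hasResolutionProperty_of_isAffine X
  let γ : DerivedCategory.Q.obj s.G ⟶ DerivedCategory.Q.obj J := DerivedCategory.Q.map s.h
  obtain ⟨C, g, δ, hS⟩ := distinguished_cocone_triangle γ
  have hTU := (RD U.ι).map_distinguished _ hS
  have hCz : IsAboveD (b + 1) ((RD U.ι).obj C) := (DQCoh.mIsoD_iff (b + 1) _ hTU).1 s.miso
  have hCpc : DCoh.IsPseudoCoherentD b ((RD U.ι).obj C) := DQCoh.pc_obj₃ _ hTU b
    (DQCoh.pc_of_perfect (PerfGen.isPerfect_RD U.ι (isPerfect_of_isStrictlyPerfect s.sp)) _) (hpc b)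
  have hCq : DCoh.IsQCohD C := PerfGen.isQCohD_obj₃ _ hS
    (PerfGen.isQCohD_of_isPerfect (isPerfect_of_isStrictlyPerfect s.sp)) hJ
  let e : ∀ i : ℤ, DCoh.HD (C⟦b⟧) i ≅ DCoh.HD C (b + i) := fun i =>
    ((DerivedCategory.homologyFunctor X.Modules 0).shiftIso b i (b + i) rfl).app C
  have hq₀ := PerfGen.isQCohD_shift hCq b
  have hft : CohB1.IsFT ((Scheme.Modules.restrictFunctor U.ι).obj (DCoh.HD (C⟦b⟧) 0)) :=
    QC.isFT_of_epi ((PerfGen.hdRD U.ι C b).hom ≫
      (Scheme.Modules.restrictFunctor U.ι).map (eqToHom (by rw [add_zero]) ≫ (e 0).inv))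
      (DQCoh.isFT_top b _ hCpc fun i hi => hCz i (by omega))
  obtain ⟨E₀, p, hE₀, hp⟩ := exists_bundle_onto hX U _ (hq₀ 0) hft
  obtain ⟨m, q, hq⟩ := exists_epi_free E₀ (LocFree.isQCoh_of_isFinLocFree hE₀) (LocFree.isFT_of_isFinLocFree hE₀)
  let F := FlatMod.freeMod X m
  let R := Scheme.Modules.restrictFunctor U.ι
  obtain ⟨u₀, hu₀⟩ := exists_lift_free (C⟦b⟧) hq₀ (q ≫ p)
  have hFu : Epi (R.map ((DerivedCategory.homologyFunctor X.Modules 0).map u₀)) := by
    haveI := hq
    haveI := hp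
    haveI := (Scheme.Modules.restrictAdjunction U.ι).leftAdjoint_preservesColimits
    haveI : Epi (R.map q) := inferInstance
    haveI : Epi (R.map (q ≫ p)) := by rw [R.map_comp]; exact epi_comp _ _
    rw [show (DerivedCategory.homologyFunctor X.Modules 0).map u₀ =
      (WayOut.singleHomologyIso F 0).hom ≫ (q ≫ p) by rw [← hu₀, HDU.toH0, Iso.hom_inv_id_assoc], R.map_comp]
    exact epi_comp _ _
  obtain ⟨u, hu⟩ := exists_cell U.ι b C hCz F u₀ hFu
  obtain ⟨ψ, hψ⟩ := (S1).map_surjective (-(u ≫ δ))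
  haveI : s.G.IsStrictlyGE (b + 1) := (CochainComplex.isStrictlyGE_iff s.G _).2 s.low
  obtain ⟨φ, hφ⟩ := exists_chain (b + 1) F s.G ψ
  rw [← hφ] at hψ
  have hT := DerivedCategory.mappingCone_triangle_distinguished φ
  obtain ⟨γ₀, hi, hγ'⟩ := exists_extend_map U.ι _ _ _ hT γ g δ hS u (neg_eq_iff_eq_neg.mp hψ.symm) b hu
  let γ' : DerivedCategory.Q.obj (CochainComplex.mappingCone φ) ⟶ DerivedCategory.Q.obj J := γ₀
  change DerivedCategory.Q.map (CochainComplex.mappingCone.inr φ) ≫ γ' = γ at hi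
  change MIsoD b ((RD U.ι).map γ') at hγ'
  have h0 : DerivedCategory.Q.map (φ ≫ s.h) = DerivedCategory.Q.map 0 := by
    have h00 : DerivedCategory.Q.map φ ≫ γ = 0 := (S1).map_injective (by
      rw [Functor.map_comp, Functor.map_zero, hψ, Preadditive.neg_comp, Category.assoc,
        show δ ≫ (S1).map γ = 0 from comp_distTriang_mor_zero₃₁ _ hS, comp_zero, neg_zero])
    rw [Functor.map_comp, Functor.map_zero]
    exact h00
  obtain ⟨H⟩ := DerQC.homotopy_of_Q_eq (φ ≫ s.h) 0 h0
  obtain ⟨α, hα⟩ := CochainComplex.HomComplex.Cochain.equivHomotopy _ _ H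
  have hα' : CochainComplex.HomComplex.δ (-1) 0 α = CochainComplex.HomComplex.Cochain.ofHom (φ ≫ s.h) := by
    rw [hα, CochainComplex.HomComplex.Cochain.ofHom_zero, add_zero]
  let h₁ := CochainComplex.mappingCone.desc φ α s.h hα'
  have hd : DerivedCategory.Q.map (CochainComplex.mappingCone.inr φ) ≫ (γ' - DerivedCategory.Q.map h₁) = 0 := by
    rw [Preadditive.comp_sub, ← Functor.map_comp, CochainComplex.mappingCone.inr_desc, sub_eq_zero, hi]
  obtain ⟨β, hβ⟩ := Triangle.yoneda_exact₃ _ hT (γ' - DerivedCategory.Q.map h₁) hd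
  obtain ⟨c, hc⟩ := DerQC.exists_Q_map (((sgl X (b + 1)).obj F)⟦(1 : ℤ)⟧) J
    (((DerivedCategory.Q : _ ⥤ DCoh.D X).commShiftIso (1 : ℤ)).hom.app _ ≫ β)
  let h' := h₁ + coneProj φ ≫ c
  have hh' : DerivedCategory.Q.map h' = γ' := by
    rw [Functor.map_add, Functor.map_comp, hc]
    refine (congrArg (DerivedCategory.Q.map h₁ + ·) ?_).trans (add_sub_cancel (DerivedCategory.Q.map h₁) γ')
    exact ((Category.assoc _ _ _).symm.trans hβ.symm)
  refine ⟨⟨CochainComplex.mappingCone φ, h', fun i => ?_, fun i hi' => ?_, fun i hi' => ?_,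
    by rw [hh']; exact hγ'⟩, CochainComplex.mappingCone.inr φ, ?_, fun i hi' => ?_⟩
  · obtain ⟨n, ⟨e'⟩⟩ := isFree_biprod (X := X) (A := ((sgl X (b + 1)).obj F).X (i + 1)) (B := s.G.X i)
      (by
        by_cases hi : i + 1 = b + 1
        · rw [hi]
          exact ⟨m, ⟨singleObjXSelf (ComplexShape.up ℤ) (b + 1) F⟩⟩
        · exact isFree_of_isZero (isZero_sgl (b + 1) F (i + 1) hi)) (s.free i)
    exact ⟨n, ⟨HomologicalComplex.homotopyCofiber.XIsoBiprod φ i (i + 1) rfl ≪≫ e'⟩⟩
  · exact IsZero.of_iso ((biprod_isZero_iff _ _).2 ⟨isZero_sgl (b + 1) F (i + 1) (by omega), s.low i (by omega)⟩)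
      (HomologicalComplex.homotopyCofiber.XIsoBiprod φ i (i + 1) rfl)
  · exact IsZero.of_iso ((biprod_isZero_iff _ _).2 ⟨isZero_sgl (b + 1) F (i + 1) (by omega), s.high i hi'⟩)
      (HomologicalComplex.homotopyCofiber.XIsoBiprod φ i (i + 1) rfl)
  · show CochainComplex.mappingCone.inr φ ≫ (h₁ + coneProj φ ≫ c) = s.h
    rw [Preadditive.comp_add, CochainComplex.mappingCone.inr_desc]
    simp [coneProj]
  · have hz : IsZero (((sgl X (b + 1)).obj F).X (i + 1)) := isZero_sgl _ _ _ (by omega)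
    refine ⟨(CochainComplex.mappingCone.snd φ).v i i (add_zero i), by simp, ?_⟩
    have hid := CochainComplex.mappingCone.id_X φ i (i + 1) rfl
    rwa [hz.eq_of_tgt ((CochainComplex.mappingCone.fst φ).1.v i (i + 1) rfl) 0, zero_comp, zero_add] at hid

/-- **extension as a complex of finite free modules** -/
theorem exists_free_extension (U : X.Opens) (hU : IsCompact (U : Set X)) (E : DCoh.D (U : Scheme.{u}))
    (hE : ∀ m : ℤ, DCoh.IsPseudoCoherentD m E) :
    ∃ (G : CochainComplex X.Modules ℤ) (b : ℤ), (∀ i : ℤ, b < i → IsZero (G.X i)) ∧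
      (∀ i : ℤ, ∃ n : ℕ, Nonempty (G.X i ≅ FlatMod.freeMod X n)) ∧
      Nonempty (DerivedCategory.Q.obj ((DCoh.restrictCx U).obj G) ≅ E) := by
  haveI : QuasiCompact U.ι := CohQC.quasiCompact_ι hU
  haveI : CompactSpace (U : Scheme.{u}) := isCompact_iff_compactSpace.1 hU
  haveI : QuasiSeparatedSpace (U : Scheme.{u}) := quasiSeparatedSpace_of_quasiSeparated U.ι
  obtain ⟨B, hB⟩ := DQPush.exists_isLE_of_pc (hE 0)
  haveI := hB
  obtain ⟨J, t, hJK, ht⟩ := DerPush.exists_kInj_sch
    ((DerivedCategory.Q : _ ⥤ DCoh.D X).objPreimage ((DCoh.Rpush U.ι).obj E))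
  haveI := hJK
  haveI := ht
  let eJ : DerivedCategory.Q.obj J ≅ (DCoh.Rpush U.ι).obj E :=
    (asIso (DerivedCategory.Q.map t)).symm ≪≫ DerivedCategory.Q.objObjPreimageIso _
  let εE : (RD U.ι).obj (DerivedCategory.Q.obj J) ≅ E :=
    (RD U.ι).mapIso eJ ≪≫ asIso ((PerfGen.adjR U.ι).counit.app E)
  have hEq : DCoh.IsQCohD E := fun i => (DQCoh.isQCoh_cohomology_of_pseudoCoherent (i - 1) E (hE _)).1 i (by lia)
  have hJ : DCoh.IsQCohD (DerivedCategory.Q.obj J) :=
    PerfGen.isQCohD_of_iso eJ.symm (DQPush.isQCohD_rpush U.ι hEq)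
  have hpc : ∀ m, DCoh.IsPseudoCoherentD m ((RD U.ι).obj (DerivedCategory.Q.obj J)) := fun m =>
    DQCoh.pc_of_iso εE.symm (hE m)
  have hbot : Nonempty (St U J (B + 1) (B + 1)) := by
    refine ⟨⟨0, 0, fun i => isFree_of_isZero ?_, fun i _ => ?_, fun i _ => ?_, fun i hi => ?_, ?_⟩⟩
    any_goals exact (HomologicalComplex.eval X.Modules (ComplexShape.up ℤ) i).map_isZero (isZero_zero _)
    · exact IsZero.isIso ((DerivedCategory.homologyFunctor _ i).map_isZero ((RD U.ι).map_isZero
        ((DerivedCategory.Q).map_isZero (isZero_zero _))))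
        ((DerivedCategory.isZero_of_isLE E B i (by omega)).of_iso
          ((DerivedCategory.homologyFunctor _ i).mapIso εE)) _
    · exact ⟨fun a c _ => ((DerivedCategory.isZero_of_isLE E B (B + 1) (by omega)).of_iso
        ((DerivedCategory.homologyFunctor _ (B + 1)).mapIso εE)).eq_of_src a c⟩
  have hnext : ∀ (k : ℕ) (s : St U J (B + 1) (B + 1 - k)),
      ∃ s' : St U J (B + 1) (B + 1 - (k + 1 : ℕ)), ∃ j : s.G ⟶ s'.G, j ≫ s'.h = s.h ∧
        ∀ i, B + 1 - (k + 1 : ℕ) < i → IsIso (j.f i) := by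
    intro k
    have he : B + 1 - (k : ℤ) = B + 1 - ((k + 1 : ℕ) : ℤ) + 1 := by push_cast; ring
    rw [he]
    intro s
    exact St.exists_next hJ hpc _ (by omega) s
  choose nx j hjh hji using hnext
  have hbot' : Nonempty (St U J (B + 1) (B + 1 - ((0 : ℕ) : ℤ))) := by
    rw [show B + 1 - ((0 : ℕ) : ℤ) = B + 1 by simp]
    exact hbot
  let s₀ : St U J (B + 1) (B + 1 - (0 : ℕ)) := hbot'.some
  let st : ∀ k : ℕ, St U J (B + 1) (B + 1 - k) := fun k => Nat.rec s₀ (fun k s => nx k s) k
  let D : ℕ ⥤ CochainComplex X.Modules ℤ := Functor.ofSequence (X := fun k => (st k).G) fun k => j k (st k)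
  let c : Cocone D :=
    { pt := J
      ι := NatTrans.ofSequence (fun k => (st k).h) fun k => by
        simp only [D, Functor.ofSequence_map_homOfLE_succ]
        exact (hjh k (st k)).trans (Category.comp_id _).symm }
  let G := colimit D
  let h : G ⟶ J := colimit.desc D c
  have hconst : ∀ (i : ℤ) (k : ℕ), B + 1 - (k : ℤ) < i →
      (D ⋙ HomologicalComplex.eval X.Modules (ComplexShape.up ℤ) i).IsEventuallyConstantFrom k := by
    intro i k hk l φ
    obtain ⟨d, rfl⟩ := Nat.exists_eq_add_of_le (leOfHom φ)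
    clear * - hk hji
    revert φ
    induction d with
    | zero =>
      intro φ
      rw [Subsingleton.elim φ (𝟙 k), CategoryTheory.Functor.map_id]
      infer_instance
    | succ d ih =>
      intro φ
      rw [Subsingleton.elim φ (homOfLE (Nat.le_add_right k d) ≫ homOfLE (Nat.le_succ (k + d))), Functor.map_comp]
      haveI := ih (homOfLE (Nat.le_add_right k d))
      haveI : IsIso ((D ⋙ HomologicalComplex.eval X.Modules (ComplexShape.up ℤ) i).map
          (homOfLE (Nat.le_succ (k + d)))) := by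
        simp only [D, Functor.comp_map, Functor.ofSequence_map_homOfLE_succ]
        exact hji (k + d) (st (k + d)) i (by push_cast; omega)
      infer_instance
  have hι : ∀ (i : ℤ) (k : ℕ), B + 1 - (k : ℤ) < i → IsIso ((colimit.ι D k).f i) := fun i k hk =>
    (hconst i k hk).isIso_ι_of_isColimit
      (isColimitOfPreserves (HomologicalComplex.eval X.Modules (ComplexShape.up ℤ) i) (colimit.isColimit D))
  let kk : ℤ → ℕ := fun i => (B + 4 - i).toNat
  have hkk : ∀ i, B + 1 - (kk i : ℤ) < i - 1 := fun i => by simp only [kk]; omega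
  have hX : ∀ (i : ℤ) (k : ℕ), B + 1 - (k : ℤ) < i → Nonempty (G.X i ≅ (st k).G.X i) := fun i k hk =>
    haveI := hι i k hk
    ⟨(asIso ((colimit.ι D k).f i)).symm⟩
  refine ⟨G, B + 1, fun i hi => ?_, fun i => ?_, ?_⟩
  · exact ((st (kk i)).high i hi).of_iso (hX i (kk i) (by have := hkk i; omega)).some
  · obtain ⟨n, ⟨e⟩⟩ := (st (kk i)).free i
    exact ⟨n, ⟨(hX i (kk i) (by have := hkk i; omega)).some ≪≫ e⟩⟩
  · haveI : IsIso ((RD U.ι).map (DerivedCategory.Q.map h)) := by
      refine (DerivedCategory.isIso_iff _ _).2 fun i => ?_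
      let k := kk i
      let ιk : (st k).G ⟶ G := colimit.ι D k
      have hιh : ιk ≫ h = (st k).h := colimit.ι_desc c k
      have hm := (st k).miso.1 i (by have := hkk i; omega)
      rw [← hιh, Functor.map_comp, Functor.map_comp, Functor.map_comp] at hm
      haveI : IsIso ((DerivedCategory.homologyFunctor _ i).map ((RD U.ι).map (DerivedCategory.Q.map ιk))) := by
        refine (NatIso.isIso_map_iff (DQCoh.homologyDerIso (Scheme.Modules.restrictFunctor U.ι) i) _).2 ?_
        haveI : IsIso (homologyMap ιk i) := by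
          haveI := hι (i - 1) k (by have := hkk i; omega)
          haveI := hι i k (by have := hkk i; omega)
          haveI := hι (i + 1) k (by have := hkk i; omega)
          haveI : IsIso ((HomologicalComplex.shortComplexFunctor' X.Modules (ComplexShape.up ℤ) (i - 1) i (i + 1)).map ιk) := by
            haveI : IsIso ((HomologicalComplex.shortComplexFunctor' X.Modules (ComplexShape.up ℤ) (i - 1) i (i + 1)).map ιk).τ₁ := hι (i - 1) k (by have := hkk i; omega)
            haveI : IsIso ((HomologicalComplex.shortComplexFunctor' X.Modules (ComplexShape.up ℤ) (i - 1) i (i + 1)).map ιk).τ₂ := hι i k (by have := hkk i; omega)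
            haveI : IsIso ((HomologicalComplex.shortComplexFunctor' X.Modules (ComplexShape.up ℤ) (i - 1) i (i + 1)).map ιk).τ₃ := hι (i + 1) k (by have := hkk i; omega)
            exact ShortComplex.isIso_of_isIso _
          rw [← quasiIsoAt_iff_isIso_homologyMap, quasiIsoAt_iff' ιk (i - 1) i (i + 1) (by simp) (by simp)]
          exact ShortComplex.quasiIso_of_isIso _
        haveI : IsIso ((DerivedCategory.homologyFunctor X.Modules i).map (DerivedCategory.Q.map ιk)) :=
          (NatIso.isIso_map_iff (DerivedCategory.homologyFunctorFactors X.Modules i) ιk).2 this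
        exact Functor.map_isIso (Scheme.Modules.restrictFunctor U.ι) _
      exact @IsIso.of_isIso_comp_left _ _ _ _ _ ((DerivedCategory.homologyFunctor _ i).map ((RD U.ι).map (DerivedCategory.Q.map ιk))) _ _ hm
    exact ⟨(rdIso U.ι G).symm ≪≫ asIso ((RD U.ι).map (DerivedCategory.Q.map h)) ≪≫ εE⟩

end Groth.Agent.ResPerf
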