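import Groth.Agent.ResPerf.Chain
import Groth.Agent.DQCoh.PerfCrit
import Groth.Agent.DQPush.PCShift

/-!
Cone lemmas for the step-by-step construction of strictly perfect representatives.
-/

set_option autoImplicit false
set_option backward.isDefEq.respectTransparency false
set_option backward.isDefEq.respectTransparency.types false
set_option linter.style.haveILetI false
set_option maxHeartbeats 1000000

universe v u

open CategoryTheory Limits Pretriangulated AlgebraicGeometry HomologicalComplex CochainComplex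

attribute [local instance] HasDerivedCategory.standard

noncomputable section

namespace Groth.Agent.ResPerf

open Groth.Agent.DQCoh (MIsoD IsAboveD)

section General

variable {C : Type u} [Category.{v} C] [Abelian C]

local notation "HC" => DerivedCategory.homologyFunctor C

lemma mIsoD_shift_iff {A B : DerivedCategory C} (f : A ⟶ B) (m n : ℤ) (h : m + 1 = n) :
    MIsoD m (f⟦(1 : ℤ)⟧') ↔ MIsoD n f := by
  subst h
  let e : ∀ i : ℤ, CategoryTheory.shiftFunctor (DerivedCategory C) (1 : ℤ) ⋙ HC i ≅ HC (i + 1) := fun i =>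
    (DerivedCategory.homologyFunctor C 0).shiftIso (1 : ℤ) i (i + 1) (by lia)
  have h1 : ∀ i, IsIso ((HC i).map (f⟦(1 : ℤ)⟧')) ↔ IsIso ((HC (i + 1)).map f) := fun i =>
    NatIso.isIso_map_iff (e i) f
  have h2 : Epi ((HC m).map (f⟦(1 : ℤ)⟧')) ↔ Epi ((HC (m + 1)).map f) :=
    (MorphismProperty.epimorphisms C).arrow_mk_iso_iff
      (Arrow.isoMk ((e m).app A) ((e m).app B) ((e m).hom.naturality f).symm)
  constructor
  · rintro ⟨hi, he⟩
    refine ⟨fun i hi' => ?_, h2.1 he⟩
    have := (h1 (i - 1)).1 (hi (i - 1) (by lia))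
    rwa [sub_add_cancel] at this
  · rintro ⟨hi, he⟩
    exact ⟨fun i hi' => (h1 i).2 (hi (i + 1) (by lia)), h2.2 he⟩

lemma mIsoD_Q_of_epi {E F : CochainComplex C ℤ} (f : E ⟶ F) (n : ℤ) (he : ∀ i, Epi (f.f i))
    (hf : ∀ i, n < i → IsIso (f.f i)) : MIsoD n ((DerivedCategory.Q : _ ⥤ DerivedCategory C).map f) := by
  haveI : Epi f := HomologicalComplex.epi_of_epi_f _ he
  let S := ShortComplex.mk (kernel.ι f) f (kernel.condition f)
  have hS : S.ShortExact :=
    { exact := ShortComplex.exact_of_f_is_kernel S (kernelIsKernel f)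
      mono_f := inferInstanceAs (Mono (kernel.ι f))
      epi_g := inferInstanceAs (Epi f) }
  refine (DQCoh.mIsoD_iff n _ (rot_of_distTriang _ (DerivedCategory.triangleOfSES_distinguished hS))).2 ?_
  have hz : IsAboveD (n + 1) ((DerivedCategory.Q : _ ⥤ DerivedCategory C).obj S.X₁) := fun i hi => by
    refine (ShortComplex.isZero_homology_of_isZero_X₂ _ ?_).of_iso
      ((DerivedCategory.homologyFunctorFactors C i).app S.X₁)
    exact (hS.map_of_exact (eval _ _ i)).isIso_g_iff.1 (hf i (by lia))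
  have h1 := DQCoh.isAboveD_shift hz 1
  rw [add_sub_cancel_right] at h1
  exact h1

/-- extending an approximation along a cone -/
theorem exists_extend {A G G' K Cc : DerivedCategory C} (a : A ⟶ G) (i : G ⟶ G') (p : G' ⟶ A⟦(1 : ℤ)⟧)
    (hT : Triangle.mk a i p ∈ distTriang (DerivedCategory C)) (γ : G ⟶ K) (g : K ⟶ Cc) (δ : Cc ⟶ G⟦(1 : ℤ)⟧)
    (hS : Triangle.mk γ g δ ∈ distTriang (DerivedCategory C)) (u : A⟦(1 : ℤ)⟧ ⟶ Cc)
    (hu : u ≫ δ = -a⟦(1 : ℤ)⟧') :
    ∃ γ' : G' ⟶ K, i ≫ γ' = γ ∧ ∀ n, MIsoD n u → MIsoD n γ' := by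
  obtain ⟨C', v, w, h12⟩ := distinguished_cocone_triangle u
  have h13 := rot_of_distTriang _ (rot_of_distTriang _ (rot_of_distTriang _ hT))
  have h23 := rot_of_distTriang _ (rot_of_distTriang _ hS)
  let O := Triangulated.someOctahedron hu h12 h23 h13
  obtain ⟨γ', hγ'⟩ := (CategoryTheory.shiftFunctor (DerivedCategory C) (1 : ℤ)).map_surjective O.m₃
  refine ⟨γ', (CategoryTheory.shiftFunctor (DerivedCategory C) (1 : ℤ)).map_injective ?_, fun n hn => ?_⟩
  · have h3 := O.comm₃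
    rw [Functor.map_comp, hγ']
    exact neg_injective ((Preadditive.neg_comp _ _).symm.trans h3)
  · refine (mIsoD_shift_iff γ' (n - 1) n (by lia)).1 ?_
    rw [hγ']
    exact (DQCoh.mIsoD_iff (n - 1) _ (rot_of_distTriang _ O.mem)).2
      (DQCoh.isAboveD_shift ((DQCoh.mIsoD_iff n _ h12).1 hn) 1)

end General

section Cone

variable {C : Type u} [Category.{v} C] [Abelian C] {A' A G : CochainComplex C ℤ}

/-- precomposition gives a map of cones -/
abbrev coneMap (π : A' ⟶ A) (φ : A ⟶ G) : mappingCone (π ≫ φ) ⟶ mappingCone φ :=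
  mappingCone.map (π ≫ φ) φ π (𝟙 G) (Category.comp_id _)

lemma inl_coneMap_f (π : A' ⟶ A) (φ : A ⟶ G) (i : ℤ) :
    (mappingCone.inl (π ≫ φ)).v (i + 1) i (by lia) ≫ (coneMap π φ).f i =
      π.f (i + 1) ≫ (mappingCone.inl φ).v (i + 1) i (by lia) := by
  simp [mappingCone.map]

lemma inr_coneMap_f (π : A' ⟶ A) (φ : A ⟶ G) (i : ℤ) :
    (mappingCone.inr (π ≫ φ)).f i ≫ (coneMap π φ).f i = (mappingCone.inr φ).f i := by
  simp [mappingCone.map]

lemma epi_coneMap_f (π : A' ⟶ A) (φ : A ⟶ G) (hπ : ∀ i, Epi (π.f i)) (i : ℤ) : Epi ((coneMap π φ).f i) := by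
  refine ⟨fun {W} a b h => ?_⟩
  refine (mappingCone.ext_from_iff φ (i + 1) i rfl a b).2 ⟨?_, ?_⟩
  · haveI := hπ (i + 1)
    rw [← cancel_epi (π.f (i + 1)), ← reassoc_of% inl_coneMap_f π φ i, ← reassoc_of% inl_coneMap_f π φ i, h]
  · rw [← reassoc_of% inr_coneMap_f π φ i, ← reassoc_of% inr_coneMap_f π φ i, h]

lemma mono_coneMap_f (π : A' ⟶ A) (φ : A ⟶ G) (i : ℤ) (hπ : Mono (π.f (i + 1))) :
    Mono ((coneMap π φ).f i) := by
  have h1 : (coneMap π φ).f i ≫ (mappingCone.fst φ).1.v i (i + 1) rfl =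
      (mappingCone.fst (π ≫ φ)).1.v i (i + 1) rfl ≫ π.f (i + 1) := by
    refine (mappingCone.ext_from_iff _ (i + 1) i rfl _ _).2 ⟨?_, ?_⟩ <;> simp [coneMap, mappingCone.map]
  have h2 : (coneMap π φ).f i ≫ (mappingCone.snd φ).v i i (add_zero i) =
      (mappingCone.snd (π ≫ φ)).v i i (add_zero i) := by
    refine (mappingCone.ext_from_iff _ (i + 1) i rfl _ _).2 ⟨?_, ?_⟩ <;> simp [coneMap, mappingCone.map]
  refine ⟨fun {W} a b h => (mappingCone.ext_to_iff (π ≫ φ) i (i + 1) rfl a b).2 ⟨?_, ?_⟩⟩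
  · haveI := hπ
    rw [← cancel_mono (π.f (i + 1)), Category.assoc, Category.assoc, ← h1, reassoc_of% h]
  · rw [← h2, reassoc_of% h]

end Cone

variable {X : Scheme.{u}}

lemma isZero_sgl (k : ℤ) (E : X.Modules) (i : ℤ) (h : i ≠ k) : IsZero (((sgl X k).obj E).X i) :=
  isZero_single_obj_X _ _ _ _ h

lemma sgl_map_epi (k : ℤ) {E' E : X.Modules} (p : E' ⟶ E) [Epi p] (i : ℤ) : Epi (((sgl X k).map p).f i) := by
  by_cases h : i = k
  · subst h
    rw [single_map_f_self]
    infer_instance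
  · exact ⟨fun a b _ => (isZero_sgl k E i h).eq_of_src a b⟩

lemma sgl_map_isIso (k : ℤ) {E' E : X.Modules} (p : E' ⟶ E) (i : ℤ) (h : i ≠ k) : IsIso (((sgl X k).map p).f i) :=
  (isZero_sgl k E' i h).isIso (isZero_sgl k E i h) _

lemma isStrictlyPerfect_sgl (k : ℤ) {E : X.Modules} (hE : FlatMod.IsFinLocFree E) :
    DCoh.IsStrictlyPerfect ((sgl X k).obj E) := by
  refine ⟨⟨k, k, fun i hi => isZero_sgl k E i (by omega)⟩, fun i => ?_⟩
  by_cases h : i = k
  · subst h
    exact DQCoh.isFinLocFree_of_iso' (singleObjXSelf (ComplexShape.up ℤ) i E).symm hE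
  · exact DQCoh.isFinLocFree_of_isZero (isZero_sgl k E i h)

lemma isPerfect_of_isStrictlyPerfect {E : CochainComplex X.Modules ℤ} (hE : DCoh.IsStrictlyPerfect E) :
    DCoh.IsPerfect (DCoh.toD X E) := by
  rw [DQCoh.perfect_iff_near]
  exact fun x => ⟨X, 𝟙 X, inferInstance, x, rfl, _, DQCoh.isStrictlyPerfect_restrict (𝟙 X) hE,
    ⟨DQCoh.rdIso (𝟙 X) _⟩⟩

lemma isFinLocFree_X₁ {S : ShortComplex X.Modules} (hS : S.ShortExact) (h₂ : FlatMod.IsFinLocFree S.X₂)
    (h₃ : FlatMod.IsFinLocFree S.X₃) : FlatMod.IsFinLocFree S.X₁ := by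
  haveI := hS.epi_g
  refine DQCoh.isFinLocFree_of_local fun x => ?_
  obtain ⟨U, j, hj, u, hu, ψ, hψ⟩ := DQCoh.exists_lift_finLocFree h₃ S.g (𝟙 _) x
  haveI := hj
  obtain ⟨V, n, hV, ⟨e⟩⟩ := DQCoh.isFinLocFree_restrict j h₂ u
  let R := Scheme.Modules.restrictFunctor j ⋙ Scheme.Modules.restrictFunctor V.ι
  have hS' : (S.map R).ShortExact :=
    ((hS.map_of_exact (Scheme.Modules.restrictFunctor j)).map_of_exact (Scheme.Modules.restrictFunctor V.ι))
  haveI := hS'.mono_f
  let s := ShortComplex.Splitting.ofExactOfSection (S.map R) hS'.exact ((Scheme.Modules.restrictFunctor V.ι).map ψ) (by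
    change (Scheme.Modules.restrictFunctor V.ι).map ψ ≫ (Scheme.Modules.restrictFunctor V.ι).map _ = 𝟙 _
    rw [← Functor.map_comp, hψ, CategoryTheory.Functor.map_id, CategoryTheory.Functor.map_id]
    ) hS'.mono_f
  refine ⟨_, V.ι ≫ j, inferInstance, ⟨u, hV⟩, hu,
    DQCoh.isFinLocFree_of_iso' ((Scheme.Modules.restrictFunctorComp V.ι j).app S.X₁).symm
      (LocFree.isFinLocFree_of_retract _ n ((S.map R).f ≫ e.hom) (e.inv ≫ s.r) ?_)⟩
  exact (Category.assoc _ _ _).trans ((congrArg ((S.map R).f ≫ ·) (e.hom_inv_id_assoc s.r)).trans s.f_r)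

/-- the lowest cohomology of a strictly perfect complex exact above it is locally free -/
lemma isFinLocFree_cycles {P : CochainComplex X.Modules ℤ} (hP : DCoh.IsStrictlyPerfect P) (b : ℤ)
    (hz : ∀ i, b < i → IsZero (P.homology i)) : ∀ i, b ≤ i → FlatMod.IsFinLocFree (P.cycles i) := by
  obtain ⟨⟨lo, hi, hv⟩, hl⟩ := hP
  suffices ∀ (m : ℕ) (i : ℤ), b ≤ i → hi < i + m → FlatMod.IsFinLocFree (P.cycles i) from
    fun i hi' => this ((hi - i).toNat + 1) i hi' (by omega)
  intro m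
  induction m with
  | zero => exact fun i _ h => DQCoh.isFinLocFree_of_isZero (IsZero.of_mono (P.iCycles i) (hv i (Or.inr (by simpa using h))))
  | succ m ih =>
    intro i hbi h
    have hc := ih (i + 1) (by omega) (by omega)
    let S := ShortComplex.mk (P.iCycles i) (P.toCycles i (i + 1)) (by
      rw [← cancel_mono (P.iCycles (i + 1)), Category.assoc, toCycles_i, iCycles_d, zero_comp])
    haveI : Mono S.f := inferInstanceAs (Mono (P.iCycles i))
    have hex : S.Exact := by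
      let S' := ShortComplex.mk (P.iCycles i) (P.d i (i + 1)) (P.iCycles_d i (i + 1))
      let f : S ⟶ S' :=
        { τ₁ := 𝟙 _
          τ₂ := 𝟙 _
          τ₃ := P.iCycles (i + 1)
          comm₁₂ := by simp [S, S']
          comm₂₃ := by simp [S, S'] }
      haveI : Epi f.τ₁ := inferInstanceAs (Epi (𝟙 _))
      haveI : IsIso f.τ₂ := inferInstanceAs (IsIso (𝟙 _))
      haveI : Mono f.τ₃ := inferInstanceAs (Mono (P.iCycles (i + 1)))
      exact (ShortComplex.exact_iff_of_epi_of_isIso_of_mono f).2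
        (ShortComplex.exact_of_f_is_kernel S' (P.cyclesIsKernel i (i + 1) (by simp)))
    haveI : Epi S.g := Preadditive.epi_of_isZero_cokernel' _
      (P.homologyIsCokernel i (i + 1) (by simp)) (hz (i + 1) (by omega))
    exact isFinLocFree_X₁ (S := S) { exact := hex, mono_f := inferInstanceAs (Mono S.f), epi_g := inferInstance } (hl i) hc

end Groth.Agent.ResPerf
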