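import Groth.Agent.ResPerf.Eff
import Groth.Agent.ProjForm.Stupid
import Groth.Agent.CohDerRoofs.Trunc
import Groth.Agent.RPushQC.SectionsExact
import Groth.Agent.KFlat.TorAmp
import Groth.Agent.DQPush.Acyclic

/-!
Derived maps out of shifted vector bundles into complexes of quasi-coherent modules are chain maps after refinement.
-/

set_option autoImplicit false
set_option backward.isDefEq.respectTransparency false
set_option backward.isDefEq.respectTransparency.types false
set_option linter.style.haveILetI false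
set_option maxHeartbeats 1000000

universe u

open CategoryTheory Limits Pretriangulated AlgebraicGeometry HomologicalComplex

attribute [local instance] HasDerivedCategory.standard

noncomputable section

namespace Groth.Agent.ResPerf

variable {X : Scheme.{u}}

/-- the module in degree `k` -/
abbrev sgl (X : Scheme.{u}) (k : ℤ) : X.Modules ⥤ CochainComplex X.Modules ℤ :=
  single X.Modules (ComplexShape.up ℤ) k

/-- maps from a single degree into a complex starting there are chain maps -/
theorem exists_chain (k : ℤ) (E : X.Modules) (F : CochainComplex X.Modules ℤ) [F.IsStrictlyGE k]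
    (φ : DerivedCategory.Q.obj ((sgl X k).obj E) ⟶ DerivedCategory.Q.obj F) :
    ∃ c : (sgl X k).obj E ⟶ F, DerivedCategory.Q.map c = φ := by
  let S := (sgl X k).obj E
  haveI : S.IsStrictlyLE k := (CochainComplex.isStrictlyLE_iff S k).2 fun i hi => isZero_single_obj_X _ _ _ _ (by omega)
  let fac := DerivedCategory.homologyFunctorFactors X.Modules k
  let h : S.homology k ⟶ F.homology k := fac.inv.app S ≫ (DerivedCategory.homologyFunctor X.Modules k).map φ ≫ fac.hom.app F
  haveI : IsIso (F.homologyπ k) := F.isIso_homologyπ (k - 1) k (by simp)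
    ((F.isZero_of_isStrictlyGE k (k - 1) (by omega)).eq_of_src _ _)
  let x : E ⟶ F.X k :=
    (singleObjHomologySelfIso (ComplexShape.up ℤ) k E).inv ≫ h ≫ inv (F.homologyπ k) ≫ F.iCycles k
  let c : S ⟶ F := mkHomFromSingle x (fun i _ => by simp [x])
  refine ⟨c, ?_⟩
  have hc : homologyMap c k = h := by
    rw [← cancel_epi (S.homologyπ k), homologyπ_naturality, ← cancel_mono (inv (F.homologyπ k) ≫ F.iCycles k)]
    simp only [Category.assoc, IsIso.hom_inv_id_assoc, cyclesMap_i]
    rw [mkHomFromSingle_f]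
    simp only [x, S, Category.assoc]
    rw [← singleObjCyclesSelfIso_hom_assoc, singleObjHomologySelfIso_hom_singleObjHomologySelfIso_inv_assoc]
  haveI : (DerivedCategory.Q.obj S).IsLE k := (DerivedCategory.isLE_iff _ _).2 fun i hi =>
    (ShortComplex.isZero_homology_of_isZero_X₂ _ (S.isZero_of_isStrictlyLE k i hi)).of_iso (KFlat.hdIso S i)
  haveI : (DerivedCategory.Q.obj F).IsGE k := (DerivedCategory.isGE_iff _ _).2 fun i hi =>
    (ShortComplex.isZero_homology_of_isZero_X₂ _ (F.isZero_of_isStrictlyGE k i hi)).of_iso (KFlat.hdIso F i)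
  refine sub_eq_zero.1 (CohDerRoofs.eq_zero_of_homology_eq_zero k _ ?_)
  rw [Functor.map_sub, sub_eq_zero, ← cancel_mono (fac.hom.app F), ← cancel_epi (fac.inv.app S)]
  refine Eq.trans ?_ (show h = _ from rfl)
  have hn : (DerivedCategory.homologyFunctor X.Modules k).map (DerivedCategory.Q.map c) ≫ fac.hom.app F =
      fac.hom.app S ≫ homologyMap c k := DerivedCategory.homologyFunctorFactors_hom_naturality c k
  exact (congrArg (fac.inv.app S ≫ ·) hn).trans
    ((Category.assoc _ _ _).symm.trans ((congrArg (· ≫ homologyMap c k) (fac.inv_hom_id_app S)).trans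
      ((Category.id_comp _).trans hc)))

/-- `E[-k]` in the derived category, naturally -/
def sglShift (X : Scheme.{u}) (k : ℤ) :
    DerivedCategory.singleFunctor X.Modules 0 ⋙ shiftFunctor (DCoh.D X) (-k) ≅ sgl X k ⋙ DerivedCategory.Q :=
  (DerivedCategory.singleFunctors X.Modules).shiftIso (-k) k 0 (by lia) ≪≫ DerivedCategory.singleFunctorIsoCompQ X.Modules k

lemma isQCoh_cokerι (Z : CochainComplex X.Modules ℤ) (hZ : ∀ i, Coh.IsQCoh (Z.X i)) (k : ℤ) :
    ∃ (C : CochainComplex X.Modules ℤ) (p : Z ⟶ C) (w : ProjForm.Stupid.ι Z k ≫ p = 0),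
      (ShortComplex.mk (ProjForm.Stupid.ι Z k) p w).ShortExact ∧ (∀ i, Coh.IsQCoh (C.X i)) ∧
      ∀ i, k ≤ i ∨ IsZero (Z.X i) → IsZero (C.X i) := by
  haveI : Mono (ProjForm.Stupid.ι Z k) := by
    haveI : ∀ i, Mono ((ProjForm.Stupid.ι Z k).f i) := fun i => by
      show Mono (ProjForm.Stupid.inc Z k i)
      haveI : IsSplitMono (ProjForm.Stupid.inc Z k i) :=
        IsSplitMono.mk' ⟨ProjForm.Stupid.pr Z k i, ProjForm.Stupid.inc_pr Z k i⟩
      infer_instance
    exact HomologicalComplex.mono_of_mono_f _ inferInstance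
  let S : ShortComplex (CochainComplex X.Modules ℤ) :=
    ShortComplex.mk (ProjForm.Stupid.ι Z k) (cokernel.π _) (cokernel.condition _)
  have hS : S.ShortExact :=
    { exact := ShortComplex.exact_of_g_is_cokernel S (cokernelIsCokernel _)
      mono_f := inferInstanceAs (Mono (ProjForm.Stupid.ι Z k))
      epi_g := inferInstanceAs (Epi (cokernel.π _)) }
  refine ⟨cokernel (ProjForm.Stupid.ι Z k), cokernel.π _, cokernel.condition _, hS, fun i => ?_, fun i hi => ?_⟩
  · have hi := hS.map_of_exact (eval X.Modules (ComplexShape.up ℤ) i)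
    haveI : Epi ((cokernel.π (ProjForm.Stupid.ι Z k)).f i) := hi.epi_g
    by_cases h : k ≤ i
    · refine DQCoh.isQCoh_of_isZero (IsZero.of_epi_eq_zero ((cokernel.π (ProjForm.Stupid.ι Z k)).f i) ?_)
      have h0 : (ProjForm.Stupid.ι Z k).f i ≫ (cokernel.π (ProjForm.Stupid.ι Z k)).f i = 0 := by
        rw [← comp_f, cokernel.condition, zero_f]
      calc _ = ProjForm.Stupid.pr Z k i ≫ (ProjForm.Stupid.ι Z k).f i ≫ (cokernel.π (ProjForm.Stupid.ι Z k)).f i := by
            rw [← Category.assoc]; erw [ProjForm.Stupid.pr_inc Z h]; exact (Category.id_comp _).symm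
        _ = 0 := by rw [h0, comp_zero]
    · haveI : Mono ((cokernel.π (ProjForm.Stupid.ι Z k)).f i) :=
        hi.exact.mono_g ((ProjForm.Stupid.isZero_Xσ Z (by omega)).eq_of_src _ _)
      haveI := isIso_of_mono_of_epi ((cokernel.π (ProjForm.Stupid.ι Z k)).f i)
      exact QC.isQCoh_of_iso (asIso ((cokernel.π (ProjForm.Stupid.ι Z k)).f i)) (hZ i)
  · have he := hS.map_of_exact (eval X.Modules (ComplexShape.up ℤ) i)
    haveI : Epi ((cokernel.π (ProjForm.Stupid.ι Z k)).f i) := he.epi_g
    refine IsZero.of_epi_eq_zero ((cokernel.π (ProjForm.Stupid.ι Z k)).f i) ?_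
    rcases hi with hi | hi
    · have h0 : (ProjForm.Stupid.ι Z k).f i ≫ (cokernel.π (ProjForm.Stupid.ι Z k)).f i = 0 := by
        rw [← comp_f, cokernel.condition, zero_f]
      calc _ = ProjForm.Stupid.pr Z k i ≫ (ProjForm.Stupid.ι Z k).f i ≫ (cokernel.π (ProjForm.Stupid.ι Z k)).f i := by
            rw [← Category.assoc]; erw [ProjForm.Stupid.pr_inc Z hi]; exact (Category.id_comp _).symm
        _ = 0 := by rw [h0, comp_zero]
    · exact hi.eq_of_src _ _

variable [CompactSpace X] [QuasiSeparatedSpace X] (hX : PerfAux.HasResolutionProperty X)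

include hX in
/-- derived maps become chain maps after refinement -/
theorem exists_rep (Z : CochainComplex X.Modules ℤ) (hZ : ∀ i, Coh.IsQCoh (Z.X i)) (lo : ℤ)
    (hlo : ∀ i, i < lo → IsZero (Z.X i)) (k : ℤ) (E : X.Modules) (hE : FlatMod.IsFinLocFree E)
    (β : DerivedCategory.Q.obj ((sgl X k).obj E) ⟶ DerivedCategory.Q.obj Z) :
    ∃ (E' : X.Modules) (π : E' ⟶ E) (c : (sgl X k).obj E' ⟶ Z), FlatMod.IsFinLocFree E' ∧ Epi π ∧
      DerivedCategory.Q.map c = DerivedCategory.Q.map ((sgl X k).map π) ≫ β := by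
  obtain ⟨C, p, w, hS, hCq, hCz⟩ := isQCoh_cokerι Z hZ k
  let M := DerivedCategory.Q.obj C
  have hz : ∀ i : ℤ, k ≤ i ∨ i < lo → IsZero (DCoh.HD M i) := fun i hi =>
    (ShortComplex.isZero_homology_of_isZero_X₂ _ (hCz i (hi.imp id (hlo i)))).of_iso (KFlat.hdIso C i)
  let N := M⟦k⟧
  have hzN : ∀ i : ℤ, k ≤ k + i ∨ k + i < lo → IsZero (DCoh.HD N i) := fun i hi =>
    (hz _ hi).of_iso (((DerivedCategory.homologyFunctor X.Modules 0).shiftIso k i (k + i) rfl).app _)
  obtain ⟨f₀, hf₀⟩ := (shiftFunctor (DCoh.D X) (-k)).map_surjective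
    (X := DCoh.inD X E) (Y := N) ((sglShift X k).hom.app E ≫ β ≫ DerivedCategory.Q.map p ≫
      (shiftFunctorCompIsoId (DCoh.D X) k (-k) (add_neg_cancel k)).inv.app M)
  obtain ⟨E', π, hE', hπ, h0⟩ := kill hX (k - lo).toNat N (PerfGen.isQCohD_shift (DQPush.isQCohD_Q C hCq) k)
    ((DerivedCategory.isLE_iff _ _).2 fun i hi => hzN i (Or.inl (by omega)))
    ((DerivedCategory.isGE_iff _ _).2 fun i hi => hzN i (Or.inr (by omega))) E hE f₀
  have h1 : DerivedCategory.Q.map ((sgl X k).map π) ≫ β ≫ DerivedCategory.Q.map p = 0 := by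
    have h2 := congrArg (shiftFunctor (DCoh.D X) (-k)).map h0
    rw [Functor.map_comp, hf₀, Functor.map_zero, ← Category.assoc] at h2
    rw [show (shiftFunctor (DCoh.D X) (-k)).map ((DerivedCategory.singleFunctor X.Modules 0).map π) ≫
      (sglShift X k).hom.app E = (sglShift X k).hom.app E' ≫ DerivedCategory.Q.map ((sgl X k).map π) from
        (sglShift X k).hom.naturality π, Category.assoc] at h2
    rw [← cancel_mono ((shiftFunctorCompIsoId (DCoh.D X) k (-k) (add_neg_cancel k)).inv.app M),
      ← cancel_epi ((sglShift X k).hom.app E'), zero_comp, comp_zero]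
    simpa only [Category.assoc] using h2
  obtain ⟨ρ, hρ⟩ := Triangle.coyoneda_exact₂ _ (DerivedCategory.triangleOfSES_distinguished hS)
    (DerivedCategory.Q.map ((sgl X k).map π) ≫ β) ((Category.assoc _ _ _).trans h1)
  haveI : (ProjForm.Stupid.σ Z k).IsStrictlyGE k :=
    (CochainComplex.isStrictlyGE_iff _ k).2 fun i hi => ProjForm.Stupid.isZero_Xσ Z hi
  obtain ⟨c, hc⟩ := exists_chain k E' (ProjForm.Stupid.σ Z k) ρ
  refine ⟨E', π, c ≫ ProjForm.Stupid.ι Z k, hE', hπ, ?_⟩
  rw [Functor.map_comp, hc]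
  exact hρ.symm

include hX in
/-- chain maps zero in the derived category are null-homotopic after refinement -/
theorem exists_null (Z : CochainComplex X.Modules ℤ) (hZ : ∀ i, Coh.IsQCoh (Z.X i)) (k k' : ℤ) (hk : k' + 1 = k)
    (E : X.Modules) (hE : FlatMod.IsFinLocFree E) (c : (sgl X k).obj E ⟶ Z) (hc : DerivedCategory.Q.map c = 0) :
    ∃ (E' : X.Modules) (π : E' ⟶ E) (y : E' ⟶ Z.X k'), FlatMod.IsFinLocFree E' ∧ Epi π ∧
      y ≫ Z.d k' k = π ≫ (singleObjXSelf (ComplexShape.up ℤ) k E).inv ≫ c.f k := by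
  let x : E ⟶ Z.X k := (singleObjXSelf (ComplexShape.up ℤ) k E).inv ≫ c.f k
  have hx : x ≫ Z.d k (k + 1) = 0 := by
    rw [show x = (singleObjXSelf (ComplexShape.up ℤ) k E).inv ≫ c.f k from rfl, Category.assoc, c.comm,
      (isZero_single_obj_X (ComplexShape.up ℤ) k E (k + 1) (by omega)).eq_of_tgt (((sgl X k).obj E).d k (k + 1)) 0,
      zero_comp, comp_zero]
  have h0 : homologyMap c k = 0 := (CohDerRoofs.Q_map_homology c k).1 (by rw [hc, Functor.map_zero])
  have h1 : Z.liftCycles x (k + 1) (by simp) hx ≫ Z.homologyπ k = 0 := by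
    have h2 : ((sgl X k).obj E).liftCycles (singleObjXSelf (ComplexShape.up ℤ) k E).inv (k + 1) (by simp)
        ((isZero_single_obj_X (ComplexShape.up ℤ) k E (k + 1) (by omega)).eq_of_tgt _ _) ≫ cyclesMap c k =
        Z.liftCycles x (k + 1) (by simp) hx := by
      rw [← cancel_mono (Z.iCycles k)]
      simp [x]
    rw [← h2, Category.assoc, ← homologyπ_naturality, h0, comp_zero, comp_zero]
  obtain ⟨A, α, hα, a, ha⟩ := (Z.sc k).liftCycles_comp_homologyπ_eq_zero_iff_up_to_refinements x
    (by show x ≫ Z.d k ((ComplexShape.up ℤ).next k) = 0; rw [show (ComplexShape.up ℤ).next k = k + 1 by simp]; exact hx) |>.1 h1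
  -- replace the refinement by a pullback
  have hprev : (ComplexShape.up ℤ).prev k = k' := by simp; omega
  subst hprev
  let d := Z.d ((ComplexShape.up ℤ).prev k) k
  let P := pullback d x
  let l : A ⟶ P := pullback.lift a α ha.symm
  haveI := hα
  haveI : Epi (pullback.snd d x) := epi_of_epi_fac (pullback.lift_snd a α ha.symm)
  have hPq : Coh.IsQCoh P := by
    let S := CommSq.mk (pullback.condition (f := d) (g := x))
    let e : P ≅ kernel (biprod.desc d (-x)) :=
      { hom := kernel.lift _ (biprod.lift (pullback.fst d x) (pullback.snd d x)) (by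
          rw [biprod.lift_desc, Preadditive.comp_neg, pullback.condition, add_neg_cancel])
        inv := pullback.lift (kernel.ι _ ≫ biprod.fst) (kernel.ι _ ≫ biprod.snd) (by
          have := kernel.condition (biprod.desc d (-x))
          simpa [biprod.desc_eq, add_neg_eq_zero, sub_eq_zero] using this)
        hom_inv_id := by
          refine pullback.hom_ext ?_ ?_ <;> simp
        inv_hom_id := by
          rw [← cancel_mono (kernel.ι (biprod.desc d (-x)))]
          simp only [Category.assoc, kernel.lift_ι, Category.id_comp]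
          refine biprod.hom_ext _ _ ?_ ?_ <;> simp }
    exact QC.isQCoh_of_iso e.symm (QC.isQCoh_kernel (RPushQC.isQCoh_biprod (hZ _) (LocFree.isQCoh_of_isFinLocFree hE))
      (hZ k) _)
  obtain ⟨E', b, hE', hb⟩ := exists_epi_finLocFree hX hPq (LocFree.isQCoh_of_isFinLocFree hE)
    (LocFree.isFT_of_isFinLocFree hE) (pullback.snd d x)
  refine ⟨E', b ≫ pullback.snd d x, b ≫ pullback.fst d x, hE', hb, ?_⟩
  rw [Category.assoc, pullback.condition, Category.assoc]

end Groth.Agent.ResPerf
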