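import Groth.Agent.QC.FTIdeal
import Groth.Agent.QC.Closure
import Groth.Agent.LocFree.Props
import Groth.Agent.DQCoh.LocLift
import Groth.Agent.DQCoh.AffinePerf
import Groth.Agent.TMul.GenLocus
import Groth.Agent.ParaFLib.Unit
import Groth.Prelude.Def_PerfAux

/-!
Quasi-compact quasi-separated schemes with the resolution property have affine diagonal.
-/

set_option autoImplicit false
set_option backward.isDefEq.respectTransparency false
set_option backward.isDefEq.respectTransparency.types false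
set_option linter.style.haveILetI false

universe u

open CategoryTheory Limits AlgebraicGeometry TopologicalSpace Opposite
open Groth.Agent.QC (res res_res app_res)

noncomputable section

namespace Groth.Agent.ResPerf

/-- dual bases as morphisms -/
theorem exists_frame {A : Type u} [CommRing A] (P : ModuleCat.{u} A) [Module.Finite A P] [Module.Projective A P]
    {E : (Spec (CommRingCat.of A)).Modules} (iE : tilde (R := CommRingCat.of A) P ≅ E) :
    ∃ (m : ℕ) (lam : Fin m → (E ⟶ Coh.structureModule (Spec (CommRingCat.of A))))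
      (mu : Fin m → (Coh.structureModule (Spec (CommRingCat.of A)) ⟶ E)), ∑ l, lam l ≫ mu l = 𝟙 E := by
  obtain ⟨m, f, g, -, -, hfg⟩ := Module.Finite.exists_comp_eq_id_of_projective A P
  let lam : Fin m → (E ⟶ Coh.structureModule (Spec (CommRingCat.of A))) := fun l =>
    iE.inv ≫ (tilde.functor (CommRingCat.of A)).map (ModuleCat.ofHom ((LinearMap.proj l).comp g) : P ⟶ ModuleCat.of A A) ≫
      (tildeSelf (R := CommRingCat.of A)).hom
  let mu : Fin m → (Coh.structureModule (Spec (CommRingCat.of A)) ⟶ E) := fun l =>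
    (tildeSelf (R := CommRingCat.of A)).inv ≫
      (tilde.functor (CommRingCat.of A)).map (ModuleCat.ofHom (LinearMap.toSpanSingleton A P (f (Pi.single l 1))) : ModuleCat.of A A ⟶ P) ≫
      iE.hom
  have hsum : ∑ l, lam l ≫ mu l = 𝟙 E := by
    have e1 : ∀ l, lam l ≫ mu l = iE.inv ≫ (tilde.functor (CommRingCat.of A)).map
        ((ModuleCat.ofHom ((LinearMap.proj l).comp g) : P ⟶ ModuleCat.of A A) ≫
          ModuleCat.ofHom (LinearMap.toSpanSingleton A P (f (Pi.single l 1)))) ≫ iE.hom := fun l => by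
      rw [Functor.map_comp]
      simp only [lam, mu, Category.assoc, Iso.hom_inv_id_assoc]
    have e2 : (∑ l, (ModuleCat.ofHom ((LinearMap.proj l).comp g) : P ⟶ ModuleCat.of A A) ≫
        ModuleCat.ofHom (LinearMap.toSpanSingleton A P (f (Pi.single l 1)))) = 𝟙 P := by
      refine ModuleCat.hom_ext (LinearMap.ext fun p => ?_)
      rw [ModuleCat.hom_sum, LinearMap.sum_apply]
      refine Eq.trans ?_ (LinearMap.congr_fun hfg p)
      show ∑ l, g p l • f (Pi.single l 1) = f (g p)
      refine ((f.pi_apply_eq_sum_univ (g p)).trans (Finset.sum_congr rfl fun l _ => ?_)).symm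
      congr 2
      funext j
      simp [Pi.single_apply, eq_comm]
    rw [Finset.sum_congr rfl fun l _ => e1 l, ← Preadditive.comp_sum, ← Preadditive.sum_comp, ← Functor.map_sum, e2,
      CategoryTheory.Functor.map_id]
    exact (congrArg (iE.inv ≫ ·) (Category.id_comp _)).trans iE.inv_hom_id
  exact ⟨m, lam, mu, hsum⟩

/-- a section of a vector bundle which a functional maps to `1` on the locus of the functional: that locus is affine -/
theorem isAffineOpen_of_section {A : Type u} [CommRing A] (E : (Spec (CommRingCat.of A)).Modules) (hE : FlatMod.IsFinLocFree E)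
    (ψ : E ⟶ Coh.structureModule (Spec (CommRingCat.of A))) (W : (Spec (CommRingCat.of A)).Opens) (s : Γ(E, W))
    (hs : ψ.app W s = (1 : Γ(Spec (CommRingCat.of A), W)))
    (hD : ∀ e : Γ(E, ⊤), (Spec (CommRingCat.of A)).basicOpen (ψ.app ⊤ e : Γ(Spec (CommRingCat.of A), ⊤)) ≤ W) : IsAffineOpen W := by
  haveI : E.IsQuasicoherent := LocFree.isQCoh_of_isFinLocFree hE
  obtain ⟨h1, h2⟩ := DQCoh.finiteProjective_gamma (A := A) E hE
  haveI : Module.Finite A ((moduleSpecΓFunctor (R := CommRingCat.of A)).obj E) := h1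
  haveI : Module.Projective A ((moduleSpecΓFunctor (R := CommRingCat.of A)).obj E) := h2
  obtain ⟨m, lam, mu, hsum⟩ := @exists_frame A _ _ h1 h2 E (QC.isoTildeΓ E)
  let a : Fin m → Γ(Spec (CommRingCat.of A), ⊤) := fun l => ψ.app ⊤ ((mu l).app ⊤ (1 : Γ(Spec (CommRingCat.of A), ⊤)))
  let c : Fin m → Γ(Spec (CommRingCat.of A), W) := fun l => (lam l).app W s
  have hone : ∑ l, c l * (Spec (CommRingCat.of A)).presheaf.map (homOfLE (le_top : W ≤ ⊤)).op (a l) = 1 := by
    rw [← hs]
    have h0 : ∑ l, QC.appₗ (lam l ≫ mu l) W s = s := by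
      rw [← LocFree.sum_app, hsum]
      rfl
    refine Eq.trans ?_ (congrArg (fun t => (ψ.app W t : Γ(Spec (CommRingCat.of A), W))) h0)
    rw [map_sum]
    refine Finset.sum_congr rfl fun l _ => ?_
    refine Eq.trans ?_ (TMul.app_eq_smul (mu l ≫ ψ) (c l)).symm
    exact congrArg (fun t : Γ(Spec (CommRingCat.of A), W) => c l * t) ((app_res (mu l ≫ ψ) (le_top : W ≤ ⊤) (1 : Γ(Spec (CommRingCat.of A), ⊤))).trans
      (congrArg ((mu l ≫ ψ).app W) (map_one ((Spec (CommRingCat.of A)).presheaf.map (homOfLE (le_top : W ≤ ⊤)).op).hom)))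
  let b : Fin m → Γ(Spec (CommRingCat.of A), W) := fun l => (Spec (CommRingCat.of A)).presheaf.map (homOfLE (le_top : W ≤ ⊤)).op (a l)
  refine isAffineOpen_of_isAffineOpen_basicOpen W (Set.range b) ?_ ?_
  · rw [Ideal.eq_top_iff_one, ← hone]
    exact Submodule.sum_mem _ fun l _ => Ideal.mul_mem_left _ _ (Ideal.subset_span ⟨l, rfl⟩)
  · rintro _ ⟨l, rfl⟩
    rw [Scheme.basicOpen_res, inf_eq_right.2 (hD _)]
    exact (isAffineOpen_top (Spec (CommRingCat.of A))).basicOpen (a l)

/-- **affine diagonal from the resolution property** -/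
theorem isAffineOpen_inf {X : Scheme.{u}} [CompactSpace X] [QuasiSeparatedSpace X]
    (hX : PerfAux.HasResolutionProperty X) {U V : X.Opens} (hU : IsAffineOpen U) (hV : IsAffineOpen V) :
    IsAffineOpen (U ⊓ V) := by
  obtain ⟨I, J, i, hmono, hJq, hJft, hIi, -, hsupp⟩ := QC.exists_ftIdeal U hU.isCompact
  haveI := hmono
  obtain ⟨E, π, hE, hπ⟩ := hX J hJq hJft
  haveI := hπ
  let φ := π ≫ i
  -- a section over `U` mapping to one
  have hU1 : (1 : Γ(X, U)) ∈ I.ideal ⟨U, hU⟩ := by
    by_contra h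
    obtain ⟨m, hm, hIm⟩ := Ideal.exists_le_maximal (I.ideal ⟨U, hU⟩) (fun e => h (by rw [e]; trivial))
    let p : PrimeSpectrum Γ(X, U) := ⟨m, hm.isPrime⟩
    have hxU : hU.fromSpec p ∈ U := by
      rw [← SetLike.mem_coe, ← IsAffineOpen.range_fromSpec hU]
      exact ⟨p, rfl⟩
    have : hU.fromSpec p ∈ (I.support : Set X) := by
      rw [SetLike.mem_coe, Scheme.IdealSheafData.mem_support_iff_of_mem (U := ⟨U, hU⟩) hxU,
        Scheme.mem_zeroLocus_iff]
      intro c hc hcx
      have : p ∈ hU.fromSpec ⁻¹ᵁ X.basicOpen c := hcx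
      rw [IsAffineOpen.fromSpec_preimage_basicOpen, PrimeSpectrum.mem_basicOpen] at this
      exact this (hIm hc)
    rw [hsupp] at this
    exact this hxU
  rw [hIi] at hU1
  obtain ⟨t, ht⟩ := hU1
  obtain ⟨s, hs⟩ := QC.app_surjective_of_epi hU (LocFree.isQCoh_of_isFinLocFree hE) hJq π t
  -- transport to the affine scheme
  let j := hV.fromSpec
  have hr : ∀ W : (Spec Γ(X, V)).Opens, j ''ᵁ W ≤ ⊤ := fun _ => le_top
  let c := InvGen.ofGen j (Coh.structureModule X) (U := ⊤) le_top (ParaFLib.oneSec X ⊤)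
  haveI : IsIso c := by
    rw [Scheme.Modules.Hom.isIso_iff_isIso_app]
    intro W
    rw [ConcreteCategory.isIso_iff_bijective]
    exact (ParaFLib.isGen_one X (j ''ᵁ W) le_top).comp (ConcreteCategory.bijective_of_isIso (j.appIso W).inv)
  let ψ : E.restrict j ⟶ Coh.structureModule (Spec Γ(X, V)) :=
    (Scheme.Modules.restrictFunctor j).map φ ≫ inv c
  have hc : ∀ (W : (Spec Γ(X, V)).Opens) (u : Γ(E.restrict j, W)),
      (j.appIso W).inv.hom (ψ.app W u : Γ(Spec Γ(X, V), W)) = (φ.app (j ''ᵁ W) u : Γ(X, j ''ᵁ W)) := by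
    intro W u
    have h1 : c.app W (ψ.app W u) = φ.app (j ''ᵁ W) u := by
      show (ψ ≫ c).app W u = _
      rw [show ψ ≫ c = (Scheme.Modules.restrictFunctor j).map φ by simp [ψ]]
      rfl
    refine Eq.trans ?_ h1
    show _ = ((j.appIso W).inv.hom (ψ.app W u : Γ(Spec Γ(X, V), W)) : Γ(X, j ''ᵁ W)) •
      (res (Coh.structureModule X) (le_top : j ''ᵁ W ≤ ⊤) (ParaFLib.oneSec X ⊤) : Γ(Coh.structureModule X, j ''ᵁ W))
    rw [show res (Coh.structureModule X) (le_top : j ''ᵁ W ≤ ⊤) (ParaFLib.oneSec X ⊤) = ParaFLib.oneSec X (j ''ᵁ W) from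
      map_one (X.presheaf.map (homOfLE (le_top : j ''ᵁ W ≤ ⊤)).op).hom]
    exact (mul_one (M := Γ(X, j ''ᵁ W)) _).symm
  let W' := j ⁻¹ᵁ U
  have himg : j ''ᵁ W' = U ⊓ V := by
    rw [Scheme.Hom.image_preimage_eq_opensRange_inf, hV.opensRange_fromSpec, inf_comm]
  have hle : j ''ᵁ W' ≤ U := himg.le.trans inf_le_left
  suffices IsAffineOpen W' by
    have := this.image_of_isOpenImmersion j
    rwa [himg] at this
  let s' : Γ(E.restrict j, W') := res E hle s
  refine isAffineOpen_of_section (A := Γ(X, V)) _ (DQCoh.isFinLocFree_restrict j hE) ψ W' s' ?_ fun e => ?_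
  · apply (ConcreteCategory.bijective_of_isIso (j.appIso W').inv).1
    refine (hc W' s').trans ?_
    rw [map_one]
    show φ.app (j ''ᵁ W') (res E hle s) = _
    rw [← app_res]
    have : φ.app U s = (1 : Γ(X, U)) := (congrArg (i.app U) hs).trans ht
    rw [this]
    exact map_one (X.presheaf.map (homOfLE hle).op).hom
  · intro y hy
    let a : Γ(Spec Γ(X, V), ⊤) := ψ.app ⊤ e
    have hya : j y ∈ X.basicOpen ((j.appIso ⊤).inv.hom a) := by
      rw [← Scheme.image_basicOpen]
      exact ⟨y, hy, rfl⟩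
    rw [hc ⊤ e] at hya
    show j y ∈ U
    by_contra hyU
    have hV' : IsAffineOpen (j ''ᵁ (⊤ : (Spec Γ(X, V)).Opens)) := (isAffineOpen_top _).image_of_isOpenImmersion j
    have hmem : j y ∈ (I.support : Set X) := by rw [hsupp]; exact hyU
    have hmem' := (Scheme.mem_zeroLocus_iff (X := X) _ _).1
      ((Scheme.IdealSheafData.mem_support_iff_of_mem (U := ⟨_, hV'⟩) ⟨y, trivial, rfl⟩).1 hmem)
    refine hmem' _ ?_ hya
    rw [hIi]
    exact ⟨π.app (j ''ᵁ ⊤) e, rfl⟩

end Groth.Agent.ResPerf
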