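import Groth.Agent.ResPerf.Diag
import Groth.Agent.SymAlg.FTSub
import Groth.Agent.ResDesc.ResProp
import Groth.Agent.DQPush.Acyclic
import Groth.Agent.DQPush.Affine
import Groth.Agent.PerfGen.Open
import Groth.Agent.PerfGen.QCohTri
import Groth.Agent.PerfGen.Bounds
import Groth.Agent.DQCoh.Affine
import Groth.Agent.DQCoh.AffinePerf
import Groth.Agent.DualCx.Self
import Groth.Agent.RPushSite.Limits
import Groth.Agent.HDU.Tower
import Mathlib.Algebra.Homology.DerivedCategory.SingleTriangle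

/-!
With the resolution property, positive degree maps out of vector bundles into quasi-coherent objects die on a
vector bundle covering the source.
-/

set_option autoImplicit false
set_option backward.isDefEq.respectTransparency false
set_option backward.isDefEq.respectTransparency.types false
set_option linter.style.haveILetI false
set_option maxHeartbeats 1000000

universe u

open CategoryTheory Limits Pretriangulated AlgebraicGeometry TopologicalSpace Opposite

attribute [local instance] HasDerivedCategory.standard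
attribute [local instance] Abelian.hasFiniteBiproducts

noncomputable section

namespace Groth.Agent.ResPerf

open DerivedCategory.TStructure

variable {X : Scheme.{u}}

/-- refine an epimorphism onto a finite type module by a vector bundle -/
theorem exists_epi_finLocFree [CompactSpace X] [QuasiSeparatedSpace X] (hX : PerfAux.HasResolutionProperty X)
    {P M : X.Modules} (hP : Coh.IsQCoh P) (hM : Coh.IsQCoh M) (hMft : CohB1.IsFT M) (ψ : P ⟶ M) [Epi ψ] :
    ∃ (E : X.Modules) (a : E ⟶ P), FlatMod.IsFinLocFree E ∧ Epi (a ≫ ψ) := by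
  classical
  haveI : P.IsQuasicoherent := hP
  haveI : M.IsQuasicoherent := hM
  have hcov : ∀ x : X, ∃ V : X.affineOpens, x ∈ V.1 := fun x => by
    obtain ⟨V, hV, hx, -⟩ := exists_isAffineOpen_mem_and_subset (X := X) (x := x) (U := ⊤) trivial
    exact ⟨⟨V, hV⟩, hx⟩
  choose V hxV using hcov
  obtain ⟨t, ht⟩ := isCompact_univ.elim_finite_subcover (fun x : X => ((V x).1 : Set X)) (fun x => (V x).1.2)
    fun x _ => Set.mem_iUnion.2 ⟨x, hxV x⟩
  have hgen : ∀ x : t, ∃ T : Finset Γ(M, (V x.1).1), Submodule.span Γ(X, (V x.1).1) (T : Set Γ(M, (V x.1).1)) = ⊤ :=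
    fun x => (QC.finite_sections (V x.1).2 (M := M) hMft).fg_top
  choose T hT using hgen
  have hlift : ∀ p : Σ x : t, {y // y ∈ T x}, ∃ z : Γ(P, (V p.1.1).1), ψ.app _ z = p.2.1 := fun p =>
    QC.app_surjective_of_epi (V p.1.1).2 hP hM ψ p.2.1
  choose z hz using hlift
  obtain ⟨S, hS, hmem⟩ := SymAlg.exists_ft_containing (F := P) (κ := Σ x : t, {y // y ∈ T x}) (fun p => V p.1.1) z
  obtain ⟨hSq, hSft⟩ := QC.Sub.isCoh_toModules hS
  obtain ⟨E, π, hE, hπ⟩ := hX S.toModules hSq hSft
  haveI := hπ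
  haveI : Epi (S.ι ≫ ψ) := by
    refine Preadditive.epi_of_cancel_zero _ fun g hg => ?_
    refine ResDesc.cancel_zero_of_span hM (fun x : t => (V x.1).1) (fun x => (V x.1).2) (fun x => ?_)
      (fun x => (T x : Set _)) hT g fun x y hy => ?_
    · obtain ⟨w, hw, hxw⟩ := Set.mem_iUnion₂.1 (ht (Set.mem_univ x))
      exact ⟨⟨w, hw⟩, hxw⟩
    · obtain ⟨s, hs⟩ := (S.range_ι_app _ _).mpr (hmem ⟨x, ⟨y, hy⟩⟩)
      have h1 := congr(($hg).app (V x.1).1 s)
      refine Eq.trans ?_ h1
      show _ = g.app _ (ψ.app _ (S.ι.app _ s))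
      rw [hs, hz]
  exact ⟨E, π ≫ S.ι, hE, by rw [Category.assoc]; exact epi_comp _ _⟩

/-- no higher maps out of vector bundles on an affine scheme -/
theorem hom_eq_zero_spec {A : Type u} [CommRing A] (E M : (Spec (CommRingCat.of A)).Modules)
    (hE : FlatMod.IsFinLocFree E) (hM : Coh.IsQCoh M) (k : ℕ)
    (c : DCoh.inD _ E ⟶ (DCoh.inD _ M)⟦((k + 1 : ℕ) : ℤ)⟧) : c = 0 := by
  let R := CommRingCat.of A
  let T := tilde.functor R
  haveI : E.IsQuasicoherent := LocFree.isQCoh_of_isFinLocFree hE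
  haveI : M.IsQuasicoherent := hM
  obtain ⟨h1, h2⟩ := DQCoh.finiteProjective_gamma (A := A) E hE
  let P : ModuleCat.{u} A := (moduleSpecΓFunctor (R := R)).obj E
  let N : ModuleCat.{u} A := (moduleSpecΓFunctor (R := R)).obj M
  haveI : Projective P := (IsProjective.iff_projective (R := A) P).1 h2
  haveI := (DQCoh.tildeD_affine (R := R)).1
  let cP : (DCoh.tildeD R).obj (Dual.inD A P) ≅ DCoh.inD (Spec R) E :=
    (T.mapDerivedCategorySingleFunctor 0).app P ≪≫
      (DerivedCategory.singleFunctor (Spec R).Modules 0).mapIso (QC.isoTildeΓ E)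
  let cN : (DCoh.tildeD R).obj ((Dual.inD A N)⟦((k + 1 : ℕ) : ℤ)⟧) ≅ (DCoh.inD (Spec R) M)⟦((k + 1 : ℕ) : ℤ)⟧ :=
    ((DCoh.tildeD R).commShiftIso _).app _ ≪≫ (shiftFunctor _ _).mapIso
      ((T.mapDerivedCategorySingleFunctor 0).app N ≪≫
        (DerivedCategory.singleFunctor (Spec R).Modules 0).mapIso (QC.isoTildeΓ M))
  obtain ⟨c', hc'⟩ := (DCoh.tildeD R).map_surjective (cP.hom ≫ c ≫ cN.inv)
  haveI : Subsingleton (Dual.inD A P ⟶ (Dual.inD A N)⟦((k + 1 : ℕ) : ℤ)⟧) :=
    (DualCx.subsingleton_iff_ext (k + 1)).2 (subsingleton_of_forall_eq 0 Abelian.Ext.eq_zero_of_projective)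
  rw [Subsingleton.elim c' 0, Functor.map_zero] at hc'
  rw [← cancel_epi cP.hom, ← cancel_mono cN.inv, comp_zero, zero_comp, Category.assoc]
  exact hc'.symm

/-- no higher maps from vector bundles into pushforwards from affine schemes -/
theorem hom_push_eq_zero {A : Type u} [CommRing A] (j : Spec (CommRingCat.of A) ⟶ X) [IsOpenImmersion j] [IsAffineHom j]
    (E : X.Modules) (hE : FlatMod.IsFinLocFree E) (F : (Spec (CommRingCat.of A)).Modules) (hF : Coh.IsQCoh F) (k : ℕ)
    (c : DCoh.inD X E ⟶ (DCoh.inD X ((Scheme.Modules.pushforward j).obj F))⟦((k + 1 : ℕ) : ℤ)⟧) : c = 0 := by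
  haveI := DerPush.hasRpush_sch j
  haveI : SiteCmp.HasRpushD (ModSite.RMor.ofScheme j) := ‹DCoh.HasRpush j›
  let K := (HomologicalComplex.single (Spec (CommRingCat.of A)).Modules (ComplexShape.up ℤ) 0).obj F
  have hK : ∀ n, Coh.IsQCoh (K.X n) := fun n => by
    by_cases hn : n = 0
    · subst hn
      exact QC.isQCoh_of_iso (HomologicalComplex.singleObjXSelf (ComplexShape.up ℤ) 0 F).symm hF
    · exact DQCoh.isQCoh_of_isZero (HomologicalComplex.isZero_single_obj_X _ _ _ _ hn)
  haveI := DQPush.isIso_unit_of_affine j K hK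
  let ε : DCoh.inD X ((Scheme.Modules.pushforward j).obj F) ≅ (DCoh.Rpush j).obj (DCoh.inD _ F) :=
    (DerivedCategory.singleFunctorIsoCompQ X.Modules 0).app _ ≪≫
      DerivedCategory.Q.mapIso ((HomologicalComplex.singleMapHomologicalComplex (Scheme.Modules.pushforward j)
        (ComplexShape.up ℤ) 0).app F).symm ≪≫
      ((DerivedCategory.quotientCompQhIso X.Modules).app _).symm ≪≫
      asIso ((DerPush.rpushUnit j).app ((HomotopyCategory.quotient _ (ComplexShape.up ℤ)).obj K)) ≪≫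
      (DCoh.Rpush j).mapIso ((DerivedCategory.quotientCompQhIso _).app K ≪≫
        ((DerivedCategory.singleFunctorIsoCompQ _ 0).app F).symm)
  let e : (DCoh.Rpush j).obj ((DCoh.inD _ F)⟦((k + 1 : ℕ) : ℤ)⟧) ≅
      (DCoh.inD X ((Scheme.Modules.pushforward j).obj F))⟦((k + 1 : ℕ) : ℤ)⟧ :=
    (RPushSite.shiftIso (ModSite.RMor.ofScheme j) _).app _ ≪≫ (shiftFunctor _ _).mapIso ε.symm
  rw [← cancel_mono e.inv, zero_comp]
  apply ((PerfGen.adjR j).homEquiv _ _).symm.injective
  rw [Adjunction.homEquiv_counit, Adjunction.homEquiv_counit, Functor.map_zero, zero_comp]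
  let r : (DQCoh.RD j).obj (DCoh.inD X E) ≅ DCoh.inD _ (E.restrict j) :=
    ((Scheme.Modules.restrictFunctor j).mapDerivedCategorySingleFunctor 0).app E
  rw [← cancel_epi r.inv, comp_zero]
  exact hom_eq_zero_spec _ F (DQCoh.isFinLocFree_restrict j hE) hF k _

lemma hom_into_biproduct_eq_zero {ι : Type u} [Finite ι] (N : ι → X.Modules) (P : DCoh.D X) (q : ℤ)
    (h : ∀ i (g : P ⟶ (DCoh.inD X (N i))⟦q⟧), g = 0) (g : P ⟶ (DCoh.inD X (⨁ N))⟦q⟧) : g = 0 := by
  classical
  haveI := Fintype.ofFinite ι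
  let G := DerivedCategory.singleFunctor X.Modules 0 ⋙ shiftFunctor (DCoh.D X) q
  calc g = g ≫ G.map (∑ i, biproduct.π N i ≫ biproduct.ι N i) := by
        rw [show (∑ i, biproduct.π N i ≫ biproduct.ι N i) = 𝟙 (⨁ N) by
          refine biproduct.hom_ext' _ _ fun j => ?_
          rw [Preadditive.comp_sum, Finset.sum_eq_single j]
          · simp
          · intro b _ hb; simp [biproduct.ι_π_ne_assoc N (Ne.symm hb)]
          · simp, G.map_id]; exact (Category.comp_id g).symm
    _ = 0 := by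
      rw [G.map_sum, Preadditive.comp_sum]
      refine Finset.sum_eq_zero fun i _ => ?_
      rw [G.map_comp, ← Category.assoc]
      exact (congrArg (· ≫ G.map (biproduct.ι N i)) (h i (g ≫ G.map (biproduct.π N i)))).trans zero_comp

variable [CompactSpace X] [QuasiSeparatedSpace X] (hX : PerfAux.HasResolutionProperty X)

include hX in
/-- the effacing embedding -/
theorem exists_effacing (M : X.Modules) (hM : Coh.IsQCoh M) :
    ∃ (N : X.Modules) (ι : M ⟶ N), Mono ι ∧ Coh.IsQCoh N ∧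
      ∀ (E : X.Modules), FlatMod.IsFinLocFree E → ∀ (k : ℕ)
        (c : DCoh.inD X E ⟶ (DCoh.inD X N)⟦((k + 1 : ℕ) : ℤ)⟧), c = 0 := by
  classical
  have hcov : ∀ x : X, ∃ V : X.affineOpens, x ∈ V.1 := fun x => by
    obtain ⟨V, hV, hx, -⟩ := exists_isAffineOpen_mem_and_subset (X := X) (x := x) (U := ⊤) trivial
    exact ⟨⟨V, hV⟩, hx⟩
  choose V hxV using hcov
  obtain ⟨t, ht⟩ := isCompact_univ.elim_finite_subcover (fun x : X => ((V x).1 : Set X)) (fun x => (V x).1.2)
    fun x _ => Set.mem_iUnion.2 ⟨x, hxV x⟩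
  let j := fun x : t => (show IsAffineOpen (V x.1).1 from (V x.1).2).fromSpec
  haveI : ∀ x : t, IsAffineHom (j x) := fun x => by
    refine ⟨fun W hW => ?_⟩
    have h := isAffineOpen_inf hX hW (V x.1).2
    rw [← (j x).isAffineOpen_iff_of_isOpenImmersion (U := j x ⁻¹ᵁ W)]
    rwa [Scheme.Hom.image_preimage_eq_opensRange_inf, IsAffineOpen.opensRange_fromSpec, inf_comm]
  let F := fun x : t => (Scheme.Modules.pushforward (j x)).obj ((Scheme.Modules.restrictFunctor (j x)).obj M)
  have hF : ∀ x, Coh.IsQCoh (F x) := fun x => by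
    haveI : ((Scheme.Modules.restrictFunctor (j x)).obj M).IsQuasicoherent := QC.isQCoh_restrict (j x) hM
    exact QC.isQCoh_pushforward (j x)
  let ι : M ⟶ ⨁ F := biproduct.lift fun x => (Scheme.Modules.restrictAdjunction (j x)).unit.app M
  refine ⟨⨁ F, ι, Preadditive.mono_of_cancel_zero _ fun {L} φ hφ => ?_, ?_, fun E hE k c => ?_⟩
  · have h : ∀ x : t, (Scheme.Modules.restrictFunctor (j x)).map φ = 0 := fun x => by
      apply ((Scheme.Modules.restrictAdjunction (j x)).homEquiv _ _).injective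
      have hn := (Scheme.Modules.restrictAdjunction (j x)).unit.naturality φ
      simp only [Functor.comp_map, Functor.id_map] at hn
      rw [Adjunction.homEquiv_unit, Adjunction.homEquiv_unit, Functor.map_zero, comp_zero, ← hn]
      have := congrArg (· ≫ biproduct.π F x) hφ
      simpa [ι] using this
    refine Scheme.Modules.hom_ext _ _ fun W => ?_
    ext s
    refine QC.section_eq_of_locally fun y hy => ?_
    obtain ⟨w, hw, hyw⟩ := Set.mem_iUnion₂.1 (ht (Set.mem_univ y))
    let O := (j ⟨w, hw⟩) ''ᵁ ((j ⟨w, hw⟩) ⁻¹ᵁ W)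
    have hyO : y ∈ O := by
      show y ∈ (j ⟨w, hw⟩) ''ᵁ ((j ⟨w, hw⟩) ⁻¹ᵁ W)
      rw [Scheme.Hom.image_preimage_eq_opensRange_inf, IsAffineOpen.opensRange_fromSpec]
      exact ⟨hyw, hy⟩
    refine ⟨O, (j ⟨w, hw⟩).image_preimage_le W, hyO, ?_⟩
    rw [QC.app_res, QC.app_res]
    exact congr(($(h ⟨w, hw⟩)).app ((j ⟨w, hw⟩) ⁻¹ᵁ W) (QC.res L ((j ⟨w, hw⟩).image_preimage_le W) s))
  · exact QC.isQCoh_of_iso ((colimit.isColimit (Discrete.functor F)).coconePointUniqueUpToIso
      (biproduct.isColimit F)) (QC.isQCoh_colimit _ fun p => hF p.as)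
  · refine hom_into_biproduct_eq_zero F _ _ (fun x g => ?_) c
    exact hom_push_eq_zero (A := Γ(X, (V x.1).1)) (j x) E hE _ (QC.isQCoh_restrict (j x) hM) k g

include hX in
/-- higher classes of vector bundles die on covering vector bundles -/
theorem kill_sheaf : ∀ (i : ℕ) (E M : X.Modules), FlatMod.IsFinLocFree E → Coh.IsQCoh M →
    ∀ (c : DCoh.inD X E ⟶ (DCoh.inD X M)⟦((i + 1 : ℕ) : ℤ)⟧),
    ∃ (E' : X.Modules) (π : E' ⟶ E), FlatMod.IsFinLocFree E' ∧ Epi π ∧
      (DerivedCategory.singleFunctor X.Modules 0).map π ≫ c = 0 := by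
  intro i
  induction i with
  | zero =>
    intro E M hE hM c
    let S := DerivedCategory.singleFunctor X.Modules 0
    obtain ⟨W, a, b, hT⟩ := Pretriangulated.distinguished_cocone_triangle₁ c
    have hz : ∀ n : ℤ, n ≠ 0 → IsZero (DCoh.HD W n) := fun n hn => by
      refine (DerivedCategory.HomologySequence.exact₁ _ hT (n - 1) n (by omega)).isZero_X₂ ?_ ?_
      · refine IsZero.eq_of_src (IsZero.of_iso ?_
          (((DerivedCategory.homologyFunctor X.Modules 0).shiftIso (((0 + 1 : ℕ) : ℤ)) (n - 1) n (by omega)).app _)) _ _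
        rcases lt_or_gt_of_ne hn with h | h
        · exact DerivedCategory.isZero_of_isGE (S.obj M) 0 n h
        · exact DerivedCategory.isZero_of_isLE (S.obj M) 0 n h
      · refine IsZero.eq_of_tgt ?_ _ _
        rcases lt_or_gt_of_ne hn with h | h
        · exact DerivedCategory.isZero_of_isGE (S.obj E) 0 n h
        · exact DerivedCategory.isZero_of_isLE (S.obj E) 0 n h
    haveI : W.IsGE 0 := (DerivedCategory.isGE_iff _ _).2 fun n hn => hz n (by omega)
    haveI : W.IsLE 0 := (DerivedCategory.isLE_iff _ _).2 fun n hn => hz n (by omega)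
    obtain ⟨P, ⟨eW⟩⟩ := DerivedCategory.exists_iso_singleFunctor_obj_of_isGE_of_isLE W 0
    have hWq : DCoh.IsQCohD W := PerfGen.isQCohD_obj₁ _ hT
      (fun n => by
        by_cases hn : n = 0
        · subst hn
          exact QC.isQCoh_of_iso ((DerivedCategory.singleFunctorCompHomologyFunctorIso X.Modules 0).app E).symm
            (LocFree.isQCoh_of_isFinLocFree hE)
        · rcases lt_or_gt_of_ne hn with h | h
          · exact DQCoh.isQCoh_of_isZero (DerivedCategory.isZero_of_isGE (S.obj E) 0 n h)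
          · exact DQCoh.isQCoh_of_isZero (DerivedCategory.isZero_of_isLE (S.obj E) 0 n h))
      (PerfGen.isQCohD_shift (fun n => by
        by_cases hn : n = 0
        · subst hn
          exact QC.isQCoh_of_iso ((DerivedCategory.singleFunctorCompHomologyFunctorIso X.Modules 0).app M).symm hM
        · rcases lt_or_gt_of_ne hn with h | h
          · exact DQCoh.isQCoh_of_isZero (DerivedCategory.isZero_of_isGE _ 0 n h)
          · exact DQCoh.isQCoh_of_isZero (DerivedCategory.isZero_of_isLE _ 0 n h)) _)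
    have hP : Coh.IsQCoh P := QC.isQCoh_of_iso ((DerivedCategory.homologyFunctor X.Modules 0).mapIso eW ≪≫
      (DerivedCategory.singleFunctorCompHomologyFunctorIso X.Modules 0).app P) (hWq 0)
    obtain ⟨ψ, hψ⟩ := S.map_surjective (eW.inv ≫ a)
    have h1 : Epi ((DerivedCategory.homologyFunctor X.Modules 0).map a) := by
      refine (DerivedCategory.HomologySequence.epi_homologyMap_mor₁_iff _ hT 0).2 ?_
      exact (IsZero.of_iso (DerivedCategory.isZero_of_isLE _ 0 (1 : ℤ) (by omega))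
        (((DerivedCategory.homologyFunctor X.Modules 0).shiftIso (((0 + 1 : ℕ) : ℤ)) 0 1 (by omega)).app _)).eq_of_tgt _ _
    haveI : Epi ψ := by
      haveI := h1
      let cI := DerivedCategory.singleFunctorCompHomologyFunctorIso X.Modules 0
      have : ψ = cI.inv.app P ≫ (DerivedCategory.homologyFunctor X.Modules 0).map (S.map ψ) ≫ cI.hom.app E := by
        have := cI.hom.naturality ψ
        simp only [Functor.comp_map, Functor.id_map] at this
        rw [this, Iso.inv_hom_id_app_assoc]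
      rw [this, hψ, Functor.map_comp]
      infer_instance
    obtain ⟨E', α, hE', hepi⟩ := exists_epi_finLocFree hX hP (LocFree.isQCoh_of_isFinLocFree hE)
      (LocFree.isFT_of_isFinLocFree hE) ψ
    refine ⟨E', α ≫ ψ, hE', hepi, ?_⟩
    rw [S.map_comp, hψ, Category.assoc, Category.assoc]
    have hac : a ≫ c = 0 := comp_distTriang_mor_zero₁₂ _ hT
    exact (congrArg (fun t => S.map α ≫ eW.inv ≫ t) hac).trans (by rw [comp_zero, comp_zero])
  | succ i ih =>
    intro E M hE hM c
    obtain ⟨N, ι, hι, hN, hkill⟩ := exists_effacing hX M hM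
    haveI := hι
    let S : ShortComplex X.Modules := ShortComplex.mk ι (cokernel.π ι) (cokernel.condition ι)
    have hS : S.ShortExact :=
      { exact := ShortComplex.exact_of_g_is_cokernel S (cokernelIsCokernel ι)
        mono_f := hι
        epi_g := inferInstanceAs (Epi (cokernel.π ι)) }
    let q : ℤ := ((i + 1 + 1 : ℕ) : ℤ)
    have hT := Triangle.shift_distinguished _ (inv_rot_of_distTriang _ hS.singleTriangle_distinguished) q
    obtain ⟨c₁, hc₁⟩ := Triangle.coyoneda_exact₂ _ hT c (hkill E hE (i + 1) _)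
    let e : ((DCoh.inD X (cokernel ι))⟦(-1 : ℤ)⟧)⟦q⟧ ≅ (DCoh.inD X (cokernel ι))⟦((i + 1 : ℕ) : ℤ)⟧ :=
      ((shiftFunctorAdd' (DCoh.D X) (-1 : ℤ) q ((i + 1 : ℕ) : ℤ) (by simp [q])).app _).symm
    obtain ⟨E', π, hE', hπ, h0⟩ := ih E (cokernel ι) hE (QC.isQCoh_cokernel hM hN ι) (c₁ ≫ e.hom)
    refine ⟨E', π, hE', hπ, ?_⟩
    have h1 : (DerivedCategory.singleFunctor X.Modules 0).map π ≫ c₁ = 0 := by
      rw [← cancel_mono e.hom, zero_comp, Category.assoc]
      exact h0
    exact (congrArg ((DerivedCategory.singleFunctor X.Modules 0).map π ≫ ·) hc₁).trans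
      ((Category.assoc _ _ _).symm.trans ((congrArg (· ≫ _) h1).trans zero_comp))

include hX in
/-- classes with values in degrees `≤ -1` die on covering vector bundles -/
theorem kill : ∀ (r : ℕ) (N : DCoh.D X), DCoh.IsQCohD N → N.IsLE (-1) → N.IsGE (-(r : ℤ)) →
    ∀ (E : X.Modules), FlatMod.IsFinLocFree E → ∀ (c : DCoh.inD X E ⟶ N),
    ∃ (E' : X.Modules) (π : E' ⟶ E), FlatMod.IsFinLocFree E' ∧ Epi π ∧
      (DerivedCategory.singleFunctor X.Modules 0).map π ≫ c = 0 := by
  intro r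
  induction r with
  | zero =>
    intro N hN hle hge E hE c
    refine ⟨E, 𝟙 E, hE, inferInstance, ?_⟩
    have : IsZero N := by
      refine PerfGen.isZero_of_suppD_empty fun i => (Devissage.support_of_isZero ?_).le
      rcases lt_or_ge i 0 with h | h
      · haveI := hge
        exact DerivedCategory.isZero_of_isGE N (-((0 : ℕ) : ℤ)) i (by omega)
      · haveI := hle
        exact DerivedCategory.isZero_of_isLE N (-1) i (by omega)
    exact this.eq_of_tgt _ _
  | succ r ih =>
    intro N hN hle hge E hE c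
    haveI := hle
    haveI := hge
    have hT := t.triangleLTGE_distinguished (-(r : ℤ)) N
    haveI hR : ((t.truncGE (-(r : ℤ))).obj N).IsGE (-(r : ℤ)) := HDU.isGE_truncGE N _
    haveI hRle : ((t.truncGE (-(r : ℤ))).obj N).IsLE (-1) := (DerivedCategory.isLE_iff _ _).2 fun i hi => by
      rcases lt_or_ge i (-(r : ℤ)) with h | h
      · exact DerivedCategory.isZero_of_isGE _ (-(r : ℤ)) i h
      · haveI := HDU.isIso_H_truncGEπ N (-(r : ℤ)) i h
        exact (DerivedCategory.isZero_of_isLE N (-1) i hi).of_iso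
          (asIso ((DerivedCategory.homologyFunctor X.Modules i).map ((t.truncGEπ (-(r : ℤ))).app N))).symm
    obtain ⟨E₁, π₁, hE₁, hπ₁, h₁⟩ := ih _ (PerfGen.isQCohD_truncGE hN _) hRle hR E hE
      (c ≫ (t.truncGEπ (-(r : ℤ))).app N)
    obtain ⟨c₁, hc₁⟩ := Triangle.coyoneda_exact₂ _ hT ((DerivedCategory.singleFunctor X.Modules 0).map π₁ ≫ c)
      ((Category.assoc _ _ _).trans h₁)
    let L := (t.truncLT (-(r : ℤ))).obj N
    haveI : L.IsLE (-((r + 1 : ℕ) : ℤ)) := t.isLE_truncLT_obj N _ _ (by push_cast; omega)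
    haveI : L.IsGE (-((r + 1 : ℕ) : ℤ)) := (DerivedCategory.isGE_iff _ _).2 fun i hi => by
      refine (DerivedCategory.HomologySequence.exact₁ _ hT (i - 1) i (by omega)).isZero_X₂ ?_ ?_
      · exact (DerivedCategory.isZero_of_isGE ((t.truncGE (-(r : ℤ))).obj N) (-(r : ℤ)) (i - 1) (by push_cast at hi; omega)).eq_of_src _ _
      · exact (DerivedCategory.isZero_of_isGE N (-((r + 1 : ℕ) : ℤ)) i hi).eq_of_tgt _ _
    obtain ⟨M, ⟨eL⟩⟩ := DerivedCategory.exists_iso_singleFunctor_obj_of_isGE_of_isLE L (-((r + 1 : ℕ) : ℤ))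
    have hLq : DCoh.IsQCohD L := PerfGen.isQCohD_truncLT hN _
    have hMq : Coh.IsQCoh M := QC.isQCoh_of_iso ((DerivedCategory.homologyFunctor X.Modules _).mapIso eL ≪≫
      (DerivedCategory.singleFunctorCompHomologyFunctorIso X.Modules (-((r + 1 : ℕ) : ℤ))).app M)
      (hLq (-((r + 1 : ℕ) : ℤ)))
    let e : L ≅ (DCoh.inD X M)⟦((r + 1 : ℕ) : ℤ)⟧ := eL ≪≫
      (((DerivedCategory.singleFunctors X.Modules).shiftIso ((r + 1 : ℕ) : ℤ) (-((r + 1 : ℕ) : ℤ)) 0 (by lia)).app M).symm
    obtain ⟨E₂, π₂, hE₂, hπ₂, h₂⟩ := kill_sheaf hX r E₁ M hE₁ hMq (c₁ ≫ e.hom)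
    haveI := hπ₁
    haveI := hπ₂
    refine ⟨E₂, π₂ ≫ π₁, hE₂, epi_comp _ _, ?_⟩
    have h3 : (DerivedCategory.singleFunctor X.Modules 0).map π₂ ≫ c₁ = 0 := by
      rw [← cancel_mono e.hom, zero_comp, Category.assoc]
      exact h₂
    rw [Functor.map_comp, Category.assoc]
    exact (congrArg ((DerivedCategory.singleFunctor X.Modules 0).map π₂ ≫ ·) hc₁).trans
      ((Category.assoc _ _ _).symm.trans ((congrArg (· ≫ _) h3).trans zero_comp))

include hX in
/-- the top cohomology is hit by a vector bundle -/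
theorem exists_top_lift (C : DCoh.D X) (hC : DCoh.IsQCohD C) [C.IsLE 0] (lo : ℤ) [C.IsGE lo]
    (hft : CohB1.IsFT (DCoh.HD C 0)) :
    ∃ (E : X.Modules) (u : DCoh.inD X E ⟶ C), FlatMod.IsFinLocFree E ∧
      Epi ((DerivedCategory.homologyFunctor X.Modules 0).map u) := by
  let S := DerivedCategory.singleFunctor X.Modules 0
  have hT := t.triangleLTGE_distinguished 0 C
  let R := (t.truncGE 0).obj C
  haveI hRge : R.IsGE 0 := HDU.isGE_truncGE C 0
  haveI hRle : R.IsLE 0 := (DerivedCategory.isLE_iff _ _).2 fun i hi => by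
    haveI := HDU.isIso_H_truncGEπ C 0 i hi.le
    exact (DerivedCategory.isZero_of_isLE C 0 i hi).of_iso
      (asIso ((DerivedCategory.homologyFunctor X.Modules i).map ((t.truncGEπ 0).app C))).symm
  obtain ⟨F, ⟨eR⟩⟩ := DerivedCategory.exists_iso_singleFunctor_obj_of_isGE_of_isLE R 0
  haveI := HDU.isIso_H_truncGEπ C 0 0 le_rfl
  let eF : DCoh.HD C 0 ≅ F :=
    asIso ((DerivedCategory.homologyFunctor X.Modules 0).map ((t.truncGEπ 0).app C)) ≪≫
      (DerivedCategory.homologyFunctor X.Modules 0).mapIso eR ≪≫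
      (DerivedCategory.singleFunctorCompHomologyFunctorIso X.Modules 0).app F
  obtain ⟨E₀, π₀, hE₀, hπ₀⟩ := hX F (QC.isQCoh_of_iso eF (hC 0))
    (QC.isFT_of_epi eF.hom hft)
  let N := ((t.truncLT 0).obj C)⟦(1 : ℤ)⟧
  haveI : ((t.truncLT 0).obj C).IsLE (-1) := t.isLE_truncLT_obj C _ _ (by omega)
  haveI : N.IsLE (-1) := (DerivedCategory.isLE_iff _ _).2 fun i hi =>
    (DerivedCategory.isZero_of_isLE ((t.truncLT 0).obj C) (-1) (1 + i) (by omega)).of_iso
      (((DerivedCategory.homologyFunctor X.Modules 0).shiftIso (1 : ℤ) i (1 + i) rfl).app _)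
  haveI : N.IsGE (-((2 - lo).toNat : ℤ)) := (DerivedCategory.isGE_iff _ _).2 fun i hi => by
    refine IsZero.of_iso ?_ (((DerivedCategory.homologyFunctor X.Modules 0).shiftIso (1 : ℤ) i (1 + i) rfl).app _)
    refine (DerivedCategory.HomologySequence.exact₁ _ hT i (1 + i) (by omega)).isZero_X₂ ?_ ?_
    · exact (DerivedCategory.isZero_of_isGE R 0 i (by omega)).eq_of_src _ _
    · exact (DerivedCategory.isZero_of_isGE C lo (1 + i) (by omega)).eq_of_tgt _ _
  obtain ⟨E, π, hE, hπ, h⟩ := kill hX (2 - lo).toNat N (PerfGen.isQCohD_shift (PerfGen.isQCohD_truncLT hC 0) 1) inferInstance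
    inferInstance E₀ hE₀ (S.map π₀ ≫ eR.inv ≫ ((t.triangleLTGE 0).obj C).mor₃)
  obtain ⟨u, hu⟩ := Triangle.coyoneda_exact₃ _ hT (S.map π ≫ S.map π₀ ≫ eR.inv)
    (by simpa only [Category.assoc] using h)
  refine ⟨E, u, hE, ?_⟩
  haveI := hπ₀
  haveI := hπ
  let G := DerivedCategory.homologyFunctor X.Modules 0
  have h1 : G.map u ≫ G.map ((t.truncGEπ 0).app C) = G.map (S.map (π ≫ π₀)) ≫ G.map eR.inv := by
    rw [← G.map_comp, ← G.map_comp, S.map_comp, Category.assoc]
    exact congrArg G.map hu.symm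
  have h2 : G.map (S.map (π ≫ π₀)) =
      (DerivedCategory.singleFunctorCompHomologyFunctorIso X.Modules 0).hom.app E ≫ (π ≫ π₀) ≫
        (DerivedCategory.singleFunctorCompHomologyFunctorIso X.Modules 0).inv.app F := by
    have := (DerivedCategory.singleFunctorCompHomologyFunctorIso X.Modules 0).hom.naturality (π ≫ π₀)
    simp only [Functor.comp_map, Functor.id_map] at this
    rw [← Category.assoc, ← this, Category.assoc, Iso.hom_inv_id_app]
    exact (Category.comp_id _).symm
  haveI : Epi (G.map (S.map (π ≫ π₀))) := by rw [h2]; infer_instance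
  rw [show G.map u = (G.map (S.map (π ≫ π₀)) ≫ G.map eR.inv) ≫ inv (G.map ((t.truncGEπ 0).app C)) by
    rw [← h1, Category.assoc, IsIso.hom_inv_id, Category.comp_id]]
  infer_instance

end Groth.Agent.ResPerf
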