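import Groth.Agent.ResPerf.Final
import Groth.Agent.ResPerf.Roofs
import Groth.Agent.CohDerRoofs.GhostMap
import Groth.Agent.CohQC.AffineHomCrit
import Groth.Agent.PerfGen.Bounds
import Groth.Agent.DQPush.Basic

/-!
A perfect object on a quasi-compact open extends, up to a shifted vector bundle.
-/

set_option autoImplicit false
set_option backward.isDefEq.respectTransparency false
set_option backward.isDefEq.respectTransparency.types false
set_option linter.style.haveILetI false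
set_option maxHeartbeats 1000000

universe u

open CategoryTheory Limits Pretriangulated AlgebraicGeometry HomologicalComplex ZeroObject

attribute [local instance] HasDerivedCategory.standard

noncomputable section

namespace Groth.Agent.ResPerf

open Groth.Agent.DQCoh (MIsoD IsAboveD RD rC rdIso)
open DerivedCategory.TStructure

variable {X : Scheme.{u}}

local notation "S1" => CategoryTheory.shiftFunctor (DCoh.D X) (1 : ℤ)
local notation "H₀" => DerivedCategory.homologyFunctor X.Modules 0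

section

variable [CompactSpace X] [QuasiSeparatedSpace X] (hX : PerfAux.HasResolutionProperty X)

include hX in
/-- a vector bundle hitting a module of finite type on an open -/
theorem exists_bundle_onto (U : X.Opens) [CompactSpace (U : Scheme.{u})] (H : X.Modules) (hH : Coh.IsQCoh H)
    (hFT : CohB1.IsFT ((Scheme.Modules.restrictFunctor U.ι).obj H)) :
    ∃ (E : X.Modules) (p : E ⟶ H), FlatMod.IsFinLocFree E ∧ Epi ((Scheme.Modules.restrictFunctor U.ι).map p) := by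
  classical
  let R := Scheme.Modules.restrictFunctor U.ι
  haveI : H.IsQuasicoherent := hH
  have hRH : Coh.IsQCoh (R.obj H) := QC.isQCoh_restrict U.ι hH
  haveI : (R.obj H).IsQuasicoherent := hRH
  have hcov : ∀ x : (U : Scheme.{u}), ∃ V : (U : Scheme.{u}).affineOpens, x ∈ V.1 := fun x => by
    obtain ⟨V, hV, hx, -⟩ := exists_isAffineOpen_mem_and_subset (X := (U : Scheme.{u})) (x := x) (U := ⊤) trivial
    exact ⟨⟨V, hV⟩, hx⟩
  choose V hxV using hcov
  obtain ⟨t, ht⟩ := isCompact_univ.elim_finite_subcover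
    (fun x : (U : Scheme.{u}) => ((V x).1 : Set (U : Scheme.{u}))) (fun x => (V x).1.2)
    fun x _ => Set.mem_iUnion.2 ⟨x, hxV x⟩
  have hgen : ∀ x : t, ∃ T : Finset Γ(R.obj H, (V x.1).1),
      Submodule.span Γ((U : Scheme.{u}), (V x.1).1) (T : Set Γ(R.obj H, (V x.1).1)) = ⊤ :=
    fun x => (QC.finite_sections (V x.1).2 (M := R.obj H) hFT).fg_top
  choose T hT using hgen
  let W : (Σ x : t, {y // y ∈ T x}) → X.affineOpens := fun p =>
    ⟨U.ι ''ᵁ (V p.1.1).1, (V p.1.1).2.image_of_isOpenImmersion U.ι⟩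
  let z : ∀ p, Γ(H, (W p).1) := fun p => (H.restrictAppIso U.ι (V p.1.1).1).hom p.2.1
  obtain ⟨S, hS, hmem⟩ := SymAlg.exists_ft_containing (F := H) W z
  obtain ⟨hSq, hSft⟩ := QC.Sub.isCoh_toModules hS
  obtain ⟨E, π, hE, hπ⟩ := hX S.toModules hSq hSft
  haveI := hπ
  haveI : Epi (R.map S.ι) := by
    refine Preadditive.epi_of_cancel_zero _ fun g hg => ?_
    refine ResDesc.cancel_zero_of_span hRH (fun x : t => (V x.1).1) (fun x => (V x.1).2) (fun x => ?_)
      (fun x => (T x : Set _)) hT g fun x y hy => ?_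
    · obtain ⟨w, hw, hxw⟩ := Set.mem_iUnion₂.1 (ht (Set.mem_univ x))
      exact ⟨⟨w, hw⟩, hxw⟩
    · obtain ⟨s, hs⟩ := (S.range_ι_app _ _).mpr (hmem ⟨x, ⟨y, hy⟩⟩)
      have h1 := congr(($hg).app (V x.1).1 s)
      refine Eq.trans ?_ h1
      exact congrArg (g.app (V x.1).1) hs.symm
  exact ⟨E, π ≫ S.ι, hE, by rw [R.map_comp]; exact epi_comp _ _⟩

include hX in
/-- maps into the zeroth cohomology lift to the derived category after refining the bundle -/
theorem exists_lift_hd {U : Scheme.{u}} (k : U ⟶ X) [IsOpenImmersion k] (N : DCoh.D X) (hN : DCoh.IsQCohD N)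
    (lo : ℤ) [N.IsGE lo] (E₀ : X.Modules) (hE₀ : FlatMod.IsFinLocFree E₀) (p : E₀ ⟶ DCoh.HD N 0)
    (hp : Epi ((Scheme.Modules.restrictFunctor k).map p)) :
    ∃ (E : X.Modules) (u : DCoh.inD X E ⟶ N), FlatMod.IsFinLocFree E ∧
      Epi ((Scheme.Modules.restrictFunctor k).map ((H₀).map u)) := by
  let R := Scheme.Modules.restrictFunctor k
  let S := DerivedCategory.singleFunctor X.Modules 0
  let C := (t.truncLT 1).obj N
  let ι₀ := (t.truncLTι 1).app N
  haveI hCle : C.IsLE 0 := t.isLE_truncLT_obj N _ _ (by omega)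
  haveI hι : IsIso ((H₀).map ι₀) := CohDerRoofs.isIso_H_truncLTι N 1 0 (by omega)
  have hC : DCoh.IsQCohD C := PerfGen.isQCohD_truncLT hN 1
  haveI hCge : C.IsGE (min lo 0 - 1) := (DerivedCategory.isGE_iff _ _).2 fun i hi => by
    haveI := CohDerRoofs.isIso_H_truncLTι N 1 i (by omega)
    exact (DerivedCategory.isZero_of_isGE N lo i (by omega)).of_iso
      (asIso ((DerivedCategory.homologyFunctor X.Modules i).map ι₀))
  have hT := t.triangleLTGE_distinguished 0 C
  let Q₀ := (t.truncGE 0).obj C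
  haveI hQge : Q₀.IsGE 0 := HDU.isGE_truncGE C 0
  haveI hQle : Q₀.IsLE 0 := (DerivedCategory.isLE_iff _ _).2 fun i hi => by
    haveI := HDU.isIso_H_truncGEπ C 0 i hi.le
    exact (DerivedCategory.isZero_of_isLE C 0 i hi).of_iso
      (asIso ((DerivedCategory.homologyFunctor X.Modules i).map ((t.truncGEπ 0).app C))).symm
  obtain ⟨F, ⟨eR⟩⟩ := DerivedCategory.exists_iso_singleFunctor_obj_of_isGE_of_isLE Q₀ 0
  haveI := HDU.isIso_H_truncGEπ C 0 0 le_rfl
  let c := DerivedCategory.singleFunctorCompHomologyFunctorIso X.Modules 0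
  let eF : DCoh.HD N 0 ≅ F :=
    (asIso ((H₀).map ι₀)).symm ≪≫ asIso ((H₀).map ((t.truncGEπ 0).app C)) ≪≫
      (H₀).mapIso eR ≪≫ c.app F
  let π₀ : E₀ ⟶ F := p ≫ eF.hom
  let N' := ((t.truncLT 0).obj C)⟦(1 : ℤ)⟧
  haveI : ((t.truncLT 0).obj C).IsLE (-1) := t.isLE_truncLT_obj C _ _ (by omega)
  haveI : N'.IsLE (-1) := (DerivedCategory.isLE_iff _ _).2 fun i hi =>
    (DerivedCategory.isZero_of_isLE ((t.truncLT 0).obj C) (-1) (1 + i) (by omega)).of_iso
      (((DerivedCategory.homologyFunctor X.Modules 0).shiftIso (1 : ℤ) i (1 + i) rfl).app _)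
  haveI : N'.IsGE (-((3 - min lo 0).toNat : ℤ)) := (DerivedCategory.isGE_iff _ _).2 fun i hi => by
    refine IsZero.of_iso ?_ (((DerivedCategory.homologyFunctor X.Modules 0).shiftIso (1 : ℤ) i (1 + i) rfl).app _)
    refine (DerivedCategory.HomologySequence.exact₁ _ hT i (1 + i) (by omega)).isZero_X₂ ?_ ?_
    · exact (DerivedCategory.isZero_of_isGE Q₀ 0 i (by omega)).eq_of_src _ _
    · exact (DerivedCategory.isZero_of_isGE C (min lo 0 - 1) (1 + i) (by omega)).eq_of_tgt _ _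
  obtain ⟨E, π, hE, hπ, h⟩ := kill hX (3 - min lo 0).toNat N' (PerfGen.isQCohD_shift (PerfGen.isQCohD_truncLT hC 0) 1)
    inferInstance inferInstance E₀ hE₀ (S.map π₀ ≫ eR.inv ≫ ((t.triangleLTGE 0).obj C).mor₃)
  obtain ⟨u, hu⟩ := Triangle.coyoneda_exact₃ _ hT (S.map π ≫ S.map π₀ ≫ eR.inv)
    (by simpa only [Category.assoc] using h)
  refine ⟨E, u ≫ ι₀, hE, ?_⟩
  haveI := hπ
  haveI := hp
  let G := H₀
  have h1 : G.map u ≫ G.map ((t.truncGEπ 0).app C) = G.map (S.map (π ≫ π₀)) ≫ G.map eR.inv := by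
    rw [← G.map_comp, ← G.map_comp, S.map_comp, Category.assoc]
    exact congrArg G.map hu.symm
  have h2 : G.map (S.map (π ≫ π₀)) = c.hom.app E ≫ (π ≫ π₀) ≫ c.inv.app F := by
    have := c.hom.naturality (π ≫ π₀)
    simp only [Functor.comp_map, Functor.id_map] at this
    rw [← cancel_mono (c.hom.app F)]
    refine this.trans ?_
    simp only [Category.assoc, Iso.inv_hom_id_app]
    exact congrArg (c.hom.app E ≫ ·) (congrArg (π ≫ ·) (Category.comp_id _).symm)
  have h3 : G.map (u ≫ ι₀) = (c.hom.app E ≫ π) ≫ p ≫ (eF.hom ≫ c.inv.app F ≫ G.map eR.inv ≫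
      inv (G.map ((t.truncGEπ 0).app C)) ≫ G.map ι₀) := by
    rw [G.map_comp, show G.map u = (G.map (S.map (π ≫ π₀)) ≫ G.map eR.inv) ≫ inv (G.map ((t.truncGEπ 0).app C)) by
      rw [← h1, Category.assoc, IsIso.hom_inv_id, Category.comp_id], h2]
    simp only [π₀, Category.assoc]
  haveI : Epi (c.hom.app E ≫ π) := epi_comp _ _
  haveI : Epi (R.map (c.hom.app E ≫ π)) :=
    haveI := (Scheme.Modules.restrictAdjunction k).leftAdjoint_preservesColimits
    inferInstance
  haveI : IsIso (R.map (eF.hom ≫ c.inv.app F ≫ G.map eR.inv ≫ inv (G.map ((t.truncGEπ 0).app C)) ≫ G.map ι₀)) :=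
    inferInstance
  rw [h3, R.map_comp (c.hom.app E ≫ π), R.map_comp p]
  exact epi_comp _ _

end

/-- turning maps `E ⟶ C⟦b⟧` into maps `E[-b] ⟶ C`, with cohomology surjective after restriction -/
lemma exists_cell {U : Scheme.{u}} (k : U ⟶ X) [IsOpenImmersion k] (b : ℤ) (C : DCoh.D X)
    (hC : IsAboveD (b + 1) ((RD k).obj C)) (E : X.Modules) (u₀ : DCoh.inD X E ⟶ C⟦b⟧)
    (h : Epi ((Scheme.Modules.restrictFunctor k).map ((H₀).map u₀))) :
    ∃ u : (DerivedCategory.Q.obj ((sgl X (b + 1)).obj E))⟦(1 : ℤ)⟧ ⟶ C, MIsoD b ((RD k).map u) := by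
  let R := Scheme.Modules.restrictFunctor k
  let A := (sgl X (b + 1)).obj E
  let e : (((DerivedCategory.Q : _ ⥤ DCoh.D X).obj A)⟦(1 : ℤ)⟧)⟦b⟧ ≅ DCoh.inD X E :=
    (CategoryTheory.shiftFunctor _ b).mapIso ((S1).mapIso ((sglShift X (b + 1)).app E).symm) ≪≫
      (CategoryTheory.shiftFunctor _ b).mapIso ((shiftFunctorAdd' (DCoh.D X) (-(b + 1)) 1 (-b) (by lia)).app _).symm ≪≫
      (shiftFunctorCompIsoId (DCoh.D X) (-b) b (by lia)).app _
  obtain ⟨u, hu⟩ := (CategoryTheory.shiftFunctor (DCoh.D X) b).map_surjective (e.hom ≫ u₀)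
  refine ⟨u, fun i hi => IsZero.isIso ?_ (hC i (by omega)) _, ?_⟩
  · refine (R.map_isZero ?_).of_iso ((DQCoh.homologyDerIso R i).app _)
    refine IsZero.of_iso ?_ (((DerivedCategory.homologyFunctor X.Modules 0).shiftIso (1 : ℤ) i (i + 1) (by lia)).app _)
    exact (ShortComplex.isZero_homology_of_isZero_X₂ _ (isZero_sgl (b + 1) E (i + 1) (by omega))).of_iso
      (KFlat.hdIso A (i + 1))
  · let d := DQCoh.homologyDerIso R b
    refine ((MorphismProperty.epimorphisms U.Modules).arrow_mk_iso_iff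
      (Arrow.isoMk (d.app _) (d.app _) (d.hom.naturality u).symm)).2 ?_
    change Epi (R.map ((DerivedCategory.homologyFunctor X.Modules b).map u))
    let s : CategoryTheory.shiftFunctor (DCoh.D X) b ⋙ H₀ ≅ DerivedCategory.homologyFunctor X.Modules b :=
      (H₀).shiftIso b 0 b (by lia)
    refine ((MorphismProperty.epimorphisms U.Modules).arrow_mk_iso_iff
      (Arrow.isoMk (R.mapIso (s.app _)) (R.mapIso (s.app _))
        ((R.map_comp _ _).symm.trans ((congrArg R.map (s.hom.naturality u).symm).trans (R.map_comp _ _))))).1 ?_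
    change Epi (R.map ((H₀).map ((CategoryTheory.shiftFunctor (DCoh.D X) b).map u)))
    rw [hu, Functor.map_comp, Functor.map_comp]
    exact epi_comp _ _

/-- the cone of an attached cell after restriction -/
theorem exists_extend_map {U : Scheme.{u}} (k : U ⟶ X) [IsOpenImmersion k] {A G G' K Cc : DCoh.D X} (a : A ⟶ G)
    (i : G ⟶ G') (p : G' ⟶ A⟦(1 : ℤ)⟧) (hT : Triangle.mk a i p ∈ distTriang (DCoh.D X)) (γ : G ⟶ K) (g : K ⟶ Cc)
    (δ : Cc ⟶ G⟦(1 : ℤ)⟧) (hS : Triangle.mk γ g δ ∈ distTriang (DCoh.D X)) (u : A⟦(1 : ℤ)⟧ ⟶ Cc)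
    (hu : u ≫ δ = -a⟦(1 : ℤ)⟧') (n : ℤ) (hn : MIsoD n ((RD k).map u)) :
    ∃ γ' : G' ⟶ K, i ≫ γ' = γ ∧ MIsoD n ((RD k).map γ') := by
  obtain ⟨C', v, w, h12⟩ := distinguished_cocone_triangle u
  have h13 := rot_of_distTriang _ (rot_of_distTriang _ (rot_of_distTriang _ hT))
  have h23 := rot_of_distTriang _ (rot_of_distTriang _ hS)
  let O := Triangulated.someOctahedron hu h12 h23 h13
  obtain ⟨γ', hγ'⟩ := (S1).map_surjective O.m₃
  refine ⟨γ', (S1).map_injective ?_, (mIsoD_shift_iff ((RD k).map γ') (n - 1) n (by lia)).1 ?_⟩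
  · have h3 := O.comm₃
    rw [Functor.map_comp, hγ']
    exact neg_injective ((Preadditive.neg_comp _ _).symm.trans h3)
  let c := (RD k).commShiftIso (1 : ℤ)
  have hC' : IsAboveD (n - 1) ((RD k).obj (C'⟦(1 : ℤ)⟧)) :=
    DQCoh.isAboveD_of_iso (c.app C').symm
      (DQCoh.isAboveD_shift ((DQCoh.mIsoD_iff n _ ((RD k).map_distinguished _ h12)).1 hn) 1)
  have h3 : MIsoD (n - 1) ((RD k).map O.m₃) :=
    (DQCoh.mIsoD_iff (n - 1) _ ((RD k).map_distinguished _ (rot_of_distTriang _ O.mem))).2 hC'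
  rw [← hγ'] at h3
  have e : ((RD k).map γ')⟦(1 : ℤ)⟧' = c.inv.app G' ≫ (RD k).map ((S1).map γ') ≫ c.hom.app K :=
    ((Iso.inv_hom_id_app_assoc c G' _).symm.trans (congrArg (c.inv.app G' ≫ ·) (c.hom.naturality γ').symm))
  rw [e]
  exact DQCoh.mIsoD_comp (DQCoh.mIsoD_of_isIso _ _) (DQCoh.mIsoD_comp h3 (DQCoh.mIsoD_of_isIso _ _))

variable [CompactSpace X] [QuasiSeparatedSpace X] (hX : PerfAux.HasResolutionProperty X)

/-- strictly perfect approximations on `X` of an object on `U` -/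
def ApprU (U : X.Opens) (K : DCoh.D X) (n : ℤ) : Prop :=
  ∃ (G : CochainComplex X.Modules ℤ) (γ : DerivedCategory.Q.obj G ⟶ K), DCoh.IsStrictlyPerfect G ∧
    (∀ i, i < n → IsZero (G.X i)) ∧ MIsoD n ((RD U.ι).map γ)

include hX in
theorem step_open (U : X.Opens) [CompactSpace (U : Scheme.{u})] (K : DCoh.D X) (hK : DCoh.IsQCohD K) (lo : ℤ)
    (hKlo : ∀ i, i < lo → IsZero (DCoh.HD K i)) (hKU : DCoh.IsPerfect ((RD U.ι).obj K)) (b : ℤ)
    (H : ApprU U K (b + 1)) : ApprU U K b := by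
  obtain ⟨G, γ, hG, hGz, hγ⟩ := H
  obtain ⟨C, g, δ, hS⟩ := distinguished_cocone_triangle γ
  have hTU := (RD U.ι).map_distinguished _ hS
  have hCp : DCoh.IsPerfect ((RD U.ι).obj C) := DQCoh.perfect_obj₃ _ hTU
    (PerfGen.isPerfect_RD U.ι (isPerfect_of_isStrictlyPerfect hG)) hKU
  have hCz : IsAboveD (b + 1) ((RD U.ι).obj C) := (DQCoh.mIsoD_iff (b + 1) _ hTU).1 hγ
  have hCq : DCoh.IsQCohD C := PerfGen.isQCohD_obj₃ _ hS
    (PerfGen.isQCohD_of_isPerfect (isPerfect_of_isStrictlyPerfect hG)) hK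
  let e : ∀ i : ℤ, DCoh.HD (C⟦b⟧) i ≅ DCoh.HD C (b + i) := fun i =>
    ((DerivedCategory.homologyFunctor X.Modules 0).shiftIso b i (b + i) rfl).app C
  haveI : (C⟦b⟧).IsGE (min lo b - b - 2) := (DerivedCategory.isGE_iff _ _).2 fun i hi => by
    refine IsZero.of_iso ?_ (e i)
    exact (DerivedCategory.HomologySequence.exact₃ _ hS (b + i) (b + i + 1) rfl).isZero_of_both_zeros
      ((hKlo (b + i) (by omega)).eq_of_src _ _)
      (((ShortComplex.isZero_homology_of_isZero_X₂ _ (hGz (b + i + 1) (by omega))).of_iso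
        (KFlat.hdIso G _)).eq_of_tgt _ _)
  have hq₀ := PerfGen.isQCohD_shift hCq b
  have hft : CohB1.IsFT ((Scheme.Modules.restrictFunctor U.ι).obj (DCoh.HD (C⟦b⟧) 0)) :=
    QC.isFT_of_epi ((PerfGen.hdRD U.ι C b).hom ≫
      (Scheme.Modules.restrictFunctor U.ι).map (eqToHom (by rw [add_zero]) ≫ (e 0).inv))
      (DQCoh.isFT_top b _ (DQCoh.pc_of_perfect hCp b) fun i hi => hCz i (by omega))
  obtain ⟨E₀, p, hE₀, hp⟩ := exists_bundle_onto hX U _ (hq₀ 0) hft
  obtain ⟨E, u₀, hE, hu₀⟩ := exists_lift_hd hX U.ι (C⟦b⟧) hq₀ (min lo b - b - 2) E₀ hE₀ p hp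
  obtain ⟨u, hu⟩ := exists_cell U.ι b C hCz E u₀ hu₀
  obtain ⟨ψ, hψ⟩ := (S1).map_surjective (-(u ≫ δ))
  haveI : G.IsStrictlyGE (b + 1) := (CochainComplex.isStrictlyGE_iff G _).2 hGz
  obtain ⟨φ, hφ⟩ := exists_chain (b + 1) E G ψ
  rw [← hφ] at hψ
  obtain ⟨γ', -, hγ'⟩ := exists_extend_map U.ι _ _ _ (DerivedCategory.mappingCone_triangle_distinguished φ) γ g δ hS u
    (neg_eq_iff_eq_neg.mp hψ.symm) b hu
  exact ⟨CochainComplex.mappingCone φ, γ', DQCoh.isStrictlyPerfect_mappingCone φ (isStrictlyPerfect_sgl _ hE) hG,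
    fun i hi => IsZero.of_iso ((biprod_isZero_iff _ _).2 ⟨isZero_sgl (b + 1) E (i + 1) (by omega), hGz i (by omega)⟩)
      (HomologicalComplex.homotopyCofiber.XIsoBiprod φ i (i + 1) rfl), hγ'⟩

include hX in
/-- a perfect object on a quasi-compact open is a restriction up to a shifted vector bundle -/
theorem exists_extend_open (U : X.Opens) (hU : IsCompact (U : Set X)) (E : DCoh.D (U : Scheme.{u}))
    (hE : DCoh.IsPerfect E) [∀ (A B : DCoh.D (U : Scheme.{u})), HasBinaryBiproduct A B] :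
    ∃ (r : ℤ) (F : (U : Scheme.{u}).Modules) (G : CochainComplex X.Modules ℤ), FlatMod.IsFinLocFree F ∧
      DCoh.IsPerfect (DCoh.toD X G) ∧
      Nonempty (DerivedCategory.Q.obj ((DCoh.restrictCx U).obj G) ≅ (DCoh.inD (U : Scheme.{u}) F)⟦-r⟧ ⊞ E) := by
  haveI : QuasiCompact U.ι := CohQC.quasiCompact_ι hU
  haveI : CompactSpace (U : Scheme.{u}) := isCompact_iff_compactSpace.1 hU
  haveI : QuasiSeparatedSpace (U : Scheme.{u}) := quasiSeparatedSpace_of_quasiSeparated U.ι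
  let K := (DCoh.Rpush U.ι).obj E
  let εE : (RD U.ι).obj K ≅ E := asIso ((PerfGen.adjR U.ι).counit.app E)
  obtain ⟨lo, hlo⟩ := exists_repGE hE
  haveI : E.IsGE lo := (DerivedCategory.isGE_iff _ _).2 fun i hi => hlo.isZero_HD i hi
  obtain ⟨hi, hhi⟩ := DQPush.exists_isLE_of_pc (DQCoh.pc_of_perfect hE 0)
  haveI := hhi
  obtain ⟨w, hw⟩ := PerfGen.exists_homVac_isLE hE
  have hKq : DCoh.IsQCohD K := DQPush.isQCohD_rpush U.ι (PerfGen.isQCohD_of_isPerfect hE)
  haveI : K.IsGE lo := DQPush.isGE_rpush U.ι E lo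
  have hKU : DCoh.IsPerfect ((RD U.ι).obj K) := DQCoh.perfect_of_iso εE.symm hE
  have key : ∀ k : ℕ, ApprU U K (hi + 1 - k) := by
    intro k
    induction k with
    | zero =>
      refine ⟨0, 0, ⟨⟨0, 0, fun i _ => ?_⟩, fun i => DQCoh.isFinLocFree_of_isZero ?_⟩, fun i _ => ?_,
        (DQCoh.mIsoD_iff _ _ ((RD U.ι).map_distinguished _ (distinguished_cocone_triangle _).choose_spec.choose_spec.choose_spec)).2 ?_⟩
      any_goals exact (HomologicalComplex.eval X.Modules (ComplexShape.up ℤ) i).map_isZero (isZero_zero _)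
      intro i hi'
      have hT := (RD U.ι).map_distinguished _ (distinguished_cocone_triangle (0 : DerivedCategory.Q.obj (0 : CochainComplex X.Modules ℤ) ⟶ K)).choose_spec.choose_spec.choose_spec
      refine (DerivedCategory.HomologySequence.exact₃ _ hT i (i + 1) rfl).isZero_of_both_zeros ?_ ?_
      · exact ((DerivedCategory.isZero_of_isLE E hi i (by omega)).of_iso
          ((DerivedCategory.homologyFunctor _ i).mapIso εE)).eq_of_src _ _
      · exact ((DerivedCategory.homologyFunctor _ (i + 1)).map_isZero ((RD U.ι).map_isZero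
          ((DerivedCategory.Q).map_isZero (isZero_zero _)))).eq_of_tgt _ _
    | succ k ih =>
      refine step_open hX U K hKq lo (fun i hi' => DerivedCategory.isZero_of_isGE K lo i hi') hKU _ ?_
      convert ih using 1
      push_cast; ring
  let b := min (lo - 3) (min hi (-(w : ℤ) - 2))
  obtain ⟨G, γ, hG, hGz, hγ⟩ : ApprU U K (b + 1) := by
    convert key (hi + 1 - (b + 1)).toNat using 1
    omega
  let G' := (DCoh.restrictCx U).obj G
  let γU : DerivedCategory.Q.obj G' ⟶ E := (rdIso U.ι G).inv ≫ (RD U.ι).map γ ≫ εE.hom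
  have hγU : MIsoD (b + 1) γU :=
    DQCoh.mIsoD_comp (DQCoh.mIsoD_of_isIso _ _) (DQCoh.mIsoD_comp hγ (DQCoh.mIsoD_of_isIso _ _))
  have hG' : DCoh.IsStrictlyPerfect G' := DQCoh.isStrictlyPerfect_restrict U.ι hG
  have hGz' : ∀ i, i < b + 1 → IsZero (G'.X i) := fun i hi' =>
    (Scheme.Modules.restrictFunctor U.ι).map_isZero (hGz i hi')
  obtain ⟨C, g, δ, hS⟩ := distinguished_cocone_triangle γU
  have hCz : IsAboveD (b + 1) C := (DQCoh.mIsoD_iff (b + 1) _ hS).1 hγU
  let e : ∀ i : ℤ, DCoh.HD (C⟦b⟧) i ≅ DCoh.HD C (b + i) := fun i =>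
    ((DerivedCategory.homologyFunctor (U : Scheme.{u}).Modules 0).shiftIso b i (b + i) rfl).app C
  haveI : (C⟦b⟧).IsLE 0 := (DerivedCategory.isLE_iff _ _).2 fun i hi' => (hCz (b + i) (by omega)).of_iso (e i)
  haveI : (C⟦b⟧).IsGE 0 := (DerivedCategory.isGE_iff _ _).2 fun i hi' => by
    refine IsZero.of_iso ?_ (e i)
    exact (DerivedCategory.HomologySequence.exact₃ _ hS (b + i) (b + i + 1) rfl).isZero_of_both_zeros
      ((hlo.isZero_HD (b + i) (by omega)).eq_of_src _ _)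
      (((ShortComplex.isZero_homology_of_isZero_X₂ _ (hGz' (b + i + 1) (by omega))).of_iso
        (KFlat.hdIso G' _)).eq_of_tgt _ _)
  obtain ⟨V, ⟨eV⟩⟩ := DerivedCategory.exists_iso_singleFunctor_obj_of_isGE_of_isLE (C⟦b⟧) 0
  have hV : FlatMod.IsFinLocFree V := by
    refine DQCoh.isFinLocFree_of_iso' ?_ (isFinLocFree_of_cone (by omega) hlo hG' hGz' hS hCz)
    exact eqToIso (by rw [add_zero]) ≪≫ (e 0).symm ≪≫
      (DerivedCategory.homologyFunctor (U : Scheme.{u}).Modules 0).mapIso eV ≪≫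
      (DerivedCategory.singleFunctorCompHomologyFunctorIso (U : Scheme.{u}).Modules 0).app V
  haveI : (DCoh.inD (U : Scheme.{u}) V).IsLE 0 := inferInstance
  have hg : g = 0 := by
    refine (CategoryTheory.shiftFunctor (DCoh.D (U : Scheme.{u})) b).map_injective ?_
    rw [Functor.map_zero, ← cancel_mono eV.hom, zero_comp]
    have := hw (DCoh.inD (U : Scheme.{u}) V) (PerfGen.isQCohD_of_iso eV
      (PerfGen.isQCohD_shift (PerfGen.isQCohD_obj₃ _ hS
        (PerfGen.isQCohD_of_isPerfect (isPerfect_of_isStrictlyPerfect hG')) (PerfGen.isQCohD_of_isPerfect hE)) b)) 0 inferInstance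
      (-b) (by omega) (eqToHom (by rw [neg_neg]) ≫ (g⟦b⟧' ≫ eV.hom))
    exact (cancel_epi _).1 (this.trans comp_zero.symm)
  let eC : C⟦(-1 : ℤ)⟧ ≅ (DCoh.inD (U : Scheme.{u}) V)⟦-(b + 1)⟧ :=
    (CategoryTheory.shiftFunctor _ (-1 : ℤ)).mapIso (((shiftFunctorCompIsoId _ b (-b) (by omega)).app C).symm ≪≫
      (CategoryTheory.shiftFunctor _ (-b)).mapIso eV) ≪≫
      ((shiftFunctorAdd' (DCoh.D (U : Scheme.{u})) (-b) (-1) (-(b + 1)) (by omega)).app _).symm
  obtain ⟨i, -, -⟩ := exists_iso_binaryBiproduct_of_distTriang _ (inv_rot_of_distTriang _ hS)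
    (by subst hg; simp)
  exact ⟨b + 1, V, G, hV, isPerfect_of_isStrictlyPerfect hG, ⟨i ≪≫ biprod.mapIso eC (Iso.refl _)⟩⟩

end Groth.Agent.ResPerf
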