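import Groth.Agent.ResPerf.Master

/-!
The descending construction stops: perfect objects are strictly perfect on schemes with the resolution property.
-/

set_option autoImplicit false
set_option backward.isDefEq.respectTransparency false
set_option backward.isDefEq.respectTransparency.types false
set_option linter.style.haveILetI false
set_option maxHeartbeats 1000000

universe u

open CategoryTheory Limits Pretriangulated AlgebraicGeometry HomologicalComplex ZeroObject

attribute [local instance] HasDerivedCategory.standard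

noncomputable section

namespace Groth.Agent.ResPerf

open Groth.Agent.DQCoh (MIsoD IsAboveD RD rC rdIso)

variable {X : Scheme.{u}}

local notation "S1" => CategoryTheory.shiftFunctor (DCoh.D X) (1 : ℤ)

/-- near every point `K` is a strictly perfect complex in degrees `≥ lo` -/
def RepGE (lo : ℤ) (K : DCoh.D X) : Prop :=
  ∀ x : X, ∃ (U : Scheme.{u}) (j : U ⟶ X) (_ : IsOpenImmersion j) (u : U) (P : CochainComplex U.Modules ℤ),
    j.base u = x ∧ DCoh.IsStrictlyPerfect P ∧ (∀ i, i < lo → IsZero (P.X i)) ∧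
      Nonempty ((RD j).obj K ≅ DerivedCategory.Q.obj P)

lemma exists_repGE [CompactSpace X] {K : DCoh.D X} (hK : DCoh.IsPerfect K) : ∃ lo : ℤ, RepGE lo K := by
  have h := (DQCoh.perfect_iff_near K).1 hK
  choose U j hj u hu P hP e using h
  choose a b hab using fun x => (hP x).1
  obtain ⟨T, hT⟩ := isCompact_univ.elim_finite_subcover (fun x => Set.range (j x).base)
    (fun x => haveI := hj x; (j x).isOpenEmbedding.isOpen_range) (fun x _ => Set.mem_iUnion.2 ⟨x, u x, hu x⟩)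
  obtain ⟨A, hA⟩ := (T.image a).bddBelow
  refine ⟨A, fun x => ?_⟩
  obtain ⟨y, hy, v, hv⟩ := Set.mem_iUnion₂.1 (hT (Set.mem_univ x))
  exact ⟨U y, j y, hj y, v, P y, hv, hP y, fun i hi => hab y i
    (Or.inl (hi.trans_le (hA (Finset.mem_coe.2 (Finset.mem_image_of_mem a hy))))), e y⟩

lemma RepGE.isZero_HD {lo : ℤ} {K : DCoh.D X} (h : RepGE lo K) (i : ℤ) (hi : i < lo) : IsZero (DCoh.HD K i) := by
  choose U j hj u P hu hP hz e using h
  haveI := hj
  refine DQPush.isZero_of_restrict_cover j (fun x => ⟨x, u x, hu x⟩) fun x => ?_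
  exact (((ShortComplex.isZero_homology_of_isZero_X₂ _ (hz x i hi)).of_iso (KFlat.hdIso (P x) i)).of_iso
    ((DerivedCategory.homologyFunctor (U x).Modules i).mapIso (e x).some)).of_iso
      ((DQCoh.homologyDerIso (Scheme.Modules.restrictFunctor (j x)) i).app K).symm

/-- the remaining cohomology is locally free -/
theorem isFinLocFree_of_cone {K C : DCoh.D X} {lo b : ℤ} (hb : b < lo) (hK : RepGE lo K)
    {G : CochainComplex X.Modules ℤ} (hG : DCoh.IsStrictlyPerfect G) (hGz : ∀ i, i < b + 1 → IsZero (G.X i))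
    {γ : DerivedCategory.Q.obj G ⟶ K} {g : K ⟶ C} {δ : C ⟶ (DerivedCategory.Q.obj G)⟦(1 : ℤ)⟧}
    (hS : Triangle.mk γ g δ ∈ distTriang (DCoh.D X)) (hC : IsAboveD (b + 1) C) :
    FlatMod.IsFinLocFree (DCoh.HD C b) := by
  refine DQCoh.isFinLocFree_of_local fun x => ?_
  obtain ⟨U, j, hj, u, P, hu, hP, hPz, ⟨a⟩⟩ := hK x
  haveI := hj
  obtain ⟨U₁, j₁, hj₁, u₁, hu₁, f, hf⟩ :=
    DQCoh.exists_map_eq_Q (DQCoh.isStrictlyPerfect_restrict j hG) ((rdIso j G).inv ≫ (RD j).map γ ≫ a.hom) u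
  haveI := hj₁
  let T₁ := (RD j₁).mapTriangle.obj ((RD j).mapTriangle.obj (Triangle.mk γ g δ))
  have hT₁ : T₁ ∈ distTriang (DCoh.D U₁) := (RD j₁).map_distinguished _ ((RD j).map_distinguished _ hS)
  let i := Pretriangulated.isoTriangleOfIso₁₂ T₁ _ hT₁ (DerivedCategory.mappingCone_triangle_distinguished f)
    ((RD j₁).mapIso (rdIso j G) ≪≫ rdIso j₁ _) ((RD j₁).mapIso a ≪≫ rdIso j₁ P) (by
      change (RD j₁).map ((RD j).map γ) ≫ (RD j₁).map a.hom ≫ (rdIso j₁ P).hom =
        ((RD j₁).map (rdIso j G).hom ≫ (rdIso j₁ _).hom) ≫ DerivedCategory.Q.map f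
      have h := congrArg (fun t => (RD j₁).map (rdIso j G).hom ≫ t ≫ (rdIso j₁ P).hom) hf
      simp only [Functor.map_comp, Category.assoc, Iso.inv_hom_id, Category.comp_id] at h ⊢
      rw [← h, ← Functor.map_comp_assoc _ (rdIso j G).hom (rdIso j G).inv, Iso.hom_inv_id,
        CategoryTheory.Functor.map_id, Category.id_comp])
  let P₁ := CochainComplex.mappingCone f
  let eP : (RD j₁).obj ((RD j).obj C) ≅ DerivedCategory.Q.obj P₁ := Triangle.π₃.mapIso i
  let eh : ∀ n, P₁.homology n ≅ DCoh.HD ((RD j₁).obj ((RD j).obj C)) n := fun n =>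
    (KFlat.hdIso P₁ n).symm ≪≫ (DerivedCategory.homologyFunctor U₁.Modules n).mapIso eP.symm
  have hP₁z : ∀ n, n < b → IsZero (P₁.X n) := fun n hn => by
    refine IsZero.of_iso ?_ (HomologicalComplex.homotopyCofiber.XIsoBiprod f n (n + 1) rfl)
    exact (biprod_isZero_iff _ _).2
      ⟨(Scheme.Modules.restrictFunctor j₁).map_isZero ((Scheme.Modules.restrictFunctor j).map_isZero
        (hGz (n + 1) (by omega))), (Scheme.Modules.restrictFunctor j₁).map_isZero (hPz n (by omega))⟩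
  have hfl := isFinLocFree_cycles (DQCoh.isStrictlyPerfect_mappingCone f
    (DQCoh.isStrictlyPerfect_restrict j₁ (DQCoh.isStrictlyPerfect_restrict j hG))
    (DQCoh.isStrictlyPerfect_restrict j₁ hP)) b
    (fun n hn => (DQCoh.isAboveD_map _ (DQCoh.isAboveD_map _ hC) n (by omega)).of_iso (eh n)) b le_rfl
  haveI : IsIso (P₁.homologyπ b) := P₁.isIso_homologyπ (b - 1) b (by simp) ((hP₁z (b - 1) (by omega)).eq_of_src _ _)
  refine ⟨U₁, j₁ ≫ j, inferInstance, u₁, (congrArg j.base hu₁).trans hu, DQCoh.isFinLocFree_of_iso' ?_ hfl⟩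
  exact asIso (P₁.homologyπ b) ≪≫ eh b ≪≫
    (DQCoh.homologyDerIso (Scheme.Modules.restrictFunctor j₁) b).app _ ≪≫
    (Scheme.Modules.restrictFunctor j₁).mapIso ((DQCoh.homologyDerIso (Scheme.Modules.restrictFunctor j) b).app C) ≪≫
    ((Scheme.Modules.restrictFunctorComp j₁ j).app _).symm

/-- below the window the construction terminates -/
theorem last_step {K : DCoh.D X} (lo : ℤ) (hK : RepGE lo K) {Z : CochainComplex X.Modules ℤ} (loZ : ℤ)
    (hloZ : ∀ i, i < loZ → IsZero (Z.X i)) (σ : K ⟶ DerivedCategory.Q.obj Z) (b : ℤ) (hb : b + 1 < lo)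
    (hbZ : b + 1 < loZ) (H : Appr σ (b + 1)) :
    ∃ (G : CochainComplex X.Modules ℤ) (γ : DerivedCategory.Q.obj G ⟶ K) (h : G ⟶ Z),
      DCoh.IsStrictlyPerfect G ∧ IsIso γ ∧ DerivedCategory.Q.map h = γ ≫ σ := by
  obtain ⟨G, γ, h, hG, hGz, hγ, hh⟩ := H
  obtain ⟨C, g, δ, hS⟩ := distinguished_cocone_triangle γ
  have hCz : IsAboveD (b + 1) C := (DQCoh.mIsoD_iff (b + 1) _ hS).1 hγ
  let e : ∀ i : ℤ, DCoh.HD (C⟦b⟧) i ≅ DCoh.HD C (b + i) := fun i =>
    ((DerivedCategory.homologyFunctor X.Modules 0).shiftIso b i (b + i) rfl).app C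
  haveI : (C⟦b⟧).IsLE 0 := (DerivedCategory.isLE_iff _ _).2 fun i hi => (hCz (b + i) (by omega)).of_iso (e i)
  haveI : (C⟦b⟧).IsGE 0 := (DerivedCategory.isGE_iff _ _).2 fun i hi => by
    refine IsZero.of_iso ?_ (e i)
    exact (DerivedCategory.HomologySequence.exact₃ _ hS (b + i) (b + i + 1) rfl).isZero_of_both_zeros
      ((hK.isZero_HD (b + i) (by omega)).eq_of_src _ _)
      (((ShortComplex.isZero_homology_of_isZero_X₂ _ (hGz (b + i + 1) (by omega))).of_iso
        (KFlat.hdIso G _)).eq_of_tgt _ _)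
  obtain ⟨V, ⟨eV⟩⟩ := DerivedCategory.exists_iso_singleFunctor_obj_of_isGE_of_isLE (C⟦b⟧) 0
  have hV : FlatMod.IsFinLocFree V := by
    refine DQCoh.isFinLocFree_of_iso' ?_ (isFinLocFree_of_cone (by omega) hK hG hGz hS hCz)
    exact eqToIso (by rw [add_zero]) ≪≫ (e 0).symm ≪≫ (DerivedCategory.homologyFunctor X.Modules 0).mapIso eV ≪≫
      (DerivedCategory.singleFunctorCompHomologyFunctorIso X.Modules 0).app V
  obtain ⟨u, -, hu⟩ := exists_shifted b (fun i hi => hCz i (by omega)) V eV.inv inferInstance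
  haveI := hu inferInstance
  obtain ⟨ψ, hψ⟩ := (S1).map_surjective (-(u ≫ δ))
  haveI : G.IsStrictlyGE (b + 1) := (CochainComplex.isStrictlyGE_iff G _).2 hGz
  obtain ⟨φ, hφ⟩ := exists_chain (b + 1) V G ψ
  rw [← hφ] at hψ
  obtain ⟨hG₁, -, γ₁, h₁, β, hmi, hd⟩ := extend σ b hG hGz hh hS hV φ u (by rw [hψ, neg_neg]) 0
    ((hloZ (b + 1) hbZ).eq_of_tgt _ _)
  haveI : (DerivedCategory.Q.obj (((sgl X (b + 1)).obj V)⟦(1 : ℤ)⟧)).IsLE b :=
    (DerivedCategory.isLE_iff _ _).2 fun i hi =>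
      (ShortComplex.isZero_homology_of_isZero_X₂ _ (isZero_sgl (b + 1) V (i + 1) (by omega))).of_iso (KFlat.hdIso _ i)
  haveI : (DerivedCategory.Q.obj Z).IsGE (b + 1) := (DerivedCategory.isGE_iff _ _).2 fun i hi =>
    (ShortComplex.isZero_homology_of_isZero_X₂ _ (hloZ i (by omega))).of_iso (KFlat.hdIso Z i)
  have hβ : β = 0 := DerivedCategory.TStructure.t.zero β b (b + 1) (by omega)
  refine ⟨_, γ₁, h₁, hG₁, ?_, ?_⟩
  · exact (DerivedCategory.isIso_iff _ γ₁).2 fun n => (hmi (n - 1) (DQCoh.mIsoD_of_isIso _ u)).1 n (by omega)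
  · rw [hβ, comp_zero] at hd
    exact sub_eq_zero.1 hd

/-- **Master theorem**: a perfect object mapping to a bounded below complex of quasi-coherent modules is represented
by a strictly perfect complex mapping by a chain map -/
theorem exists_strictlyPerfect [CompactSpace X] [QuasiSeparatedSpace X] (hX : PerfAux.HasResolutionProperty X)
    (K : DCoh.D X) (hK : DCoh.IsPerfect K) (Z : CochainComplex X.Modules ℤ) (hZ : ∀ i, Coh.IsQCoh (Z.X i))
    (hZb : ∃ a : ℤ, ∀ n, n < a → IsZero (Z.X n)) (σ : K ⟶ DerivedCategory.Q.obj Z) :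
    ∃ (G : CochainComplex X.Modules ℤ) (γ : DerivedCategory.Q.obj G ≅ K) (h : G ⟶ Z),
      DCoh.IsStrictlyPerfect G ∧ DerivedCategory.Q.map h = γ.hom ≫ σ := by
  obtain ⟨loZ, hloZ⟩ := hZb
  obtain ⟨lo, hlo⟩ := exists_repGE hK
  obtain ⟨hi, hhi⟩ := DQPush.exists_isLE_of_pc (DQCoh.pc_of_perfect hK 0)
  have base : Appr σ (hi + 1) := by
    refine ⟨0, 0, 0, ⟨⟨0, 0, fun i _ => ?_⟩, fun i => DQCoh.isFinLocFree_of_isZero ?_⟩, fun i _ => ?_,
      ⟨fun i hi' => ?_, ?_⟩, by rw [Functor.map_zero, zero_comp]⟩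
    any_goals exact (HomologicalComplex.eval X.Modules (ComplexShape.up ℤ) i).map_isZero (isZero_zero _)
    · exact IsZero.isIso ((DerivedCategory.homologyFunctor X.Modules i).map_isZero
        ((DerivedCategory.Q).map_isZero (isZero_zero _))) (DerivedCategory.isZero_of_isLE K hi i (by omega)) _
    · exact ⟨fun a c _ => (DerivedCategory.isZero_of_isLE K hi (hi + 1) (by omega)).eq_of_src a c⟩
  have key : ∀ k : ℕ, Appr σ (hi + 1 - k) := by
    intro k
    induction k with
    | zero => simpa using base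
    | succ k ih =>
      refine step hX hK lo (fun i hi' => hlo.isZero_HD i hi') hZ loZ hloZ σ _ ?_
      convert ih using 1
      push_cast; ring
  let b := min (min lo loZ) (hi + 1) - 3
  obtain ⟨G, γ, h, hG, hγ, hh⟩ := last_step lo hlo loZ hloZ σ b (by omega) (by omega) (by
    convert key (hi + 1 - (b + 1)).toNat using 1
    omega)
  exact ⟨G, @asIso _ _ _ _ γ hγ, h, hG, hh⟩

end Groth.Agent.ResPerf
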