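import Groth.Agent.ResPerf.Roofs
import Mathlib.Algebra.Homology.HomotopyCofiber
import Mathlib.CategoryTheory.Localization.Predicate

/-!
`D_perf` is the localization of strictly perfect complexes at quasi-isomorphisms.
-/

set_option autoImplicit false
set_option backward.isDefEq.respectTransparency false
set_option backward.isDefEq.respectTransparency.types false
set_option linter.style.haveILetI false
set_option maxHeartbeats 1000000

universe u

open CategoryTheory Limits AlgebraicGeometry HomologicalComplex ZeroObject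

attribute [local instance] HasDerivedCategory.standard

noncomputable section

namespace Groth.Agent.ResPerf

variable (X : Scheme.{u})

/-- strictly perfect complexes -/
abbrev SPProp : ObjectProperty (CochainComplex X.Modules ℤ) := fun E => DCoh.IsStrictlyPerfect E

/-- their category -/
abbrev SP : Type (u + 1) := (SPProp X).FullSubcategory

/-- quasi-isomorphisms of strictly perfect complexes -/
abbrev qisSP : MorphismProperty (SP X) :=
  (HomologicalComplex.quasiIso X.Modules (ComplexShape.up ℤ)).inverseImage (SPProp X).ι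

variable {X}

lemma qisSP_iff {A B : SP X} (f : A ⟶ B) : qisSP X f ↔ QuasiIso f.hom := Iff.rfl

lemma isStrictlyPerfect_biprod {E F : CochainComplex X.Modules ℤ} (hE : DCoh.IsStrictlyPerfect E)
    (hF : DCoh.IsStrictlyPerfect F) : DCoh.IsStrictlyPerfect (E ⊞ F) := by
  obtain ⟨⟨a, b, hab⟩, hEl⟩ := hE
  obtain ⟨⟨a', b', hab'⟩, hFl⟩ := hF
  let e : ∀ i, (E ⊞ F).X i ≅ E.X i ⊞ F.X i := fun i =>
    (HomologicalComplex.eval X.Modules (ComplexShape.up ℤ) i).mapBiprod E F
  exact ⟨⟨min a a', max b b', fun i hi => IsZero.of_iso ((biprod_isZero_iff _ _).2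
    ⟨hab i (by omega), hab' i (by omega)⟩) (e i)⟩,
    fun i => DQCoh.isFinLocFree_of_iso' (e i).symm (DQCoh.isFinLocFree_biprod (hEl i) (hFl i))⟩

/-- the cylinder of a strictly perfect complex -/
def cyl (A : SP X) : SP X :=
  ⟨A.obj.cylinder, DQCoh.isStrictlyPerfect_mappingCone (biprod.lift (𝟙 A.obj) (-𝟙 A.obj)) A.property
    (isStrictlyPerfect_biprod A.property A.property)⟩

/-- homotopic maps become equal in the localization -/
lemma map_eq_of_homotopy {A B : SP X} (f g : A ⟶ B) (h : Homotopy f.hom g.hom) :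
    (qisSP X).Q.map f = (qisSP X).Q.map g := by
  let hc : ∀ j : ℤ, ∃ i, (ComplexShape.up ℤ).Rel i j := fun j => ⟨j - 1, by simp⟩
  let p : cyl A ⟶ A := ObjectProperty.homMk (cylinder.π A.obj)
  let i₀ : A ⟶ cyl A := ObjectProperty.homMk (cylinder.ι₀ A.obj)
  let i₁ : A ⟶ cyl A := ObjectProperty.homMk (cylinder.ι₁ A.obj)
  let d : cyl A ⟶ B := ObjectProperty.homMk (cylinder.desc f.hom g.hom h)
  haveI : IsIso ((qisSP X).Q.map p) := by
    refine MorphismProperty.Q_inverts (qisSP X) p ?_
    change QuasiIso (cylinder.π A.obj)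
    exact inferInstanceAs (QuasiIso (cylinder.homotopyEquiv A.obj hc).hom)
  have hp₀ : i₀ ≫ p = 𝟙 A := by ext : 1; exact cylinder.ι₀_π A.obj
  have hp₁ : i₁ ≫ p = 𝟙 A := by ext : 1; exact cylinder.ι₁_π A.obj
  have hi : (qisSP X).Q.map i₀ = (qisSP X).Q.map i₁ := by
    rw [← cancel_mono ((qisSP X).Q.map p), ← Functor.map_comp, ← Functor.map_comp, hp₀, hp₁]
  have hf : i₀ ≫ d = f := by ext : 1; exact cylinder.ι₀_desc f.hom g.hom h
  have hg : i₁ ≫ d = g := by ext : 1; exact cylinder.ι₁_desc f.hom g.hom h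
  rw [← hf, ← hg, Functor.map_comp, Functor.map_comp, hi]

variable [CompactSpace X] [QuasiSeparatedSpace X] (hX : PerfAux.HasResolutionProperty X)

include hX in
/-- maps with the same image in `D(X)` agree in the localization -/
lemma map_eq_of_Q_eq {A B : SP X} (f g : A ⟶ B)
    (h : DerivedCategory.Q.map f.hom = DerivedCategory.Q.map g.hom) : (qisSP X).Q.map f = (qisSP X).Q.map g := by
  obtain ⟨G, γ, hG, hγ, ⟨H⟩⟩ := exists_homotopy hX A.obj B.obj A.property B.property f.hom g.hom h
  let γ' : (⟨G, hG⟩ : SP X) ⟶ A := ObjectProperty.homMk γ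
  haveI : IsIso ((qisSP X).Q.map γ') := MorphismProperty.Q_inverts (qisSP X) γ' hγ
  rw [← cancel_epi ((qisSP X).Q.map γ'), ← Functor.map_comp, ← Functor.map_comp]
  exact map_eq_of_homotopy (γ' ≫ f) (γ' ≫ g) H

include hX in
/-- the Ore condition, in the localization -/
lemma exists_ore {A B C : SP X} (f : A ⟶ B) (w : C ⟶ B) (hw : qisSP X w) :
    ∃ (D : SP X) (w' : D ⟶ A) (f' : D ⟶ C), qisSP X w' ∧
      (qisSP X).Q.map w' ≫ (qisSP X).Q.map f = (qisSP X).Q.map f' ≫ (qisSP X).Q.map w := by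
  haveI : IsIso (DerivedCategory.Q.map w.hom) := (DerivedCategory.isIso_Q_map_iff_quasiIso _ _).2 hw
  obtain ⟨G, g, h, hG, hg, hgh⟩ := exists_roof hX A.obj C.obj A.property C.property
    (DerivedCategory.Q.map f.hom ≫ inv (DerivedCategory.Q.map w.hom))
  refine ⟨⟨G, hG⟩, ObjectProperty.homMk g, ObjectProperty.homMk h, hg, ?_⟩
  rw [← Functor.map_comp, ← Functor.map_comp]
  refine map_eq_of_Q_eq hX _ _ ?_
  change DerivedCategory.Q.map (g ≫ f.hom) = DerivedCategory.Q.map (h ≫ w.hom)
  rw [Functor.map_comp, Functor.map_comp, ← hgh, Category.assoc, Category.assoc, IsIso.inv_hom_id, Category.comp_id]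

/-- morphisms of the localization which are roofs -/
def IsRoof : MorphismProperty (qisSP X).Localization := fun A B a =>
  ∃ (G : SP X) (g : G ⟶ A.as.obj) (h : G ⟶ B.as.obj), qisSP X g ∧
    (qisSP X).Q.map g ≫ a = (qisSP X).Q.map h

include hX in
lemma exists_roof_loc {A B : SP X} (a : (qisSP X).Q.obj A ⟶ (qisSP X).Q.obj B) :
    ∃ (G : SP X) (g : G ⟶ A) (h : G ⟶ B), qisSP X g ∧ (qisSP X).Q.map g ≫ a = (qisSP X).Q.map h := by
  haveI : (IsRoof (X := X)).IsStableUnderComposition := by
    refine ⟨fun {A B C} a b ha hb => ?_⟩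
    obtain ⟨G, g, h, hg, ha⟩ := ha
    obtain ⟨G', g', h', hg', hb⟩ := hb
    obtain ⟨D, w, f, hw, he⟩ := exists_ore hX h g' hg'
    refine ⟨D, w ≫ g, f ≫ h', ?_, ?_⟩
    · change QuasiIso (w.hom ≫ g.hom)
      haveI : QuasiIso w.hom := hw
      haveI : QuasiIso g.hom := hg
      infer_instance
    · rw [Functor.map_comp, Functor.map_comp, ← hb, Category.assoc]
      exact (congrArg ((qisSP X).Q.map w ≫ ·) ((Category.assoc _ _ _).symm.trans (congrArg (· ≫ b) ha))).trans
        (((Category.assoc _ _ _).symm.trans (congrArg (· ≫ b) he)).trans (Category.assoc _ _ _))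
  have htop : IsRoof (X := X) = ⊤ := by
    refine Localization.Construction.morphismProperty_eq_top _ (fun A B f => ?_) (fun A B w hw => ?_)
    · refine ⟨A, 𝟙 A, f, ?_, ?_⟩
      · change QuasiIso (𝟙 A.obj); infer_instance
      · rw [CategoryTheory.Functor.map_id]; exact Category.id_comp _
    · exact ⟨A, w, 𝟙 A, hw, ((Localization.Construction.wIso w hw).hom_inv_id).trans
        (CategoryTheory.Functor.map_id _ A).symm⟩
  have : IsRoof (X := X) a := by rw [htop]; trivial
  exact this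

include hX in
/-- the statement of Thomason–Trobaugh -/
theorem isLocalization_toPerf
    (h : ∀ E : SP X, DCoh.IsPerfect (((SPProp X).ι ⋙ DerivedCategory.Q).obj E)) :
    (ObjectProperty.lift (fun K : DCoh.D X => DCoh.IsPerfect K) ((SPProp X).ι ⋙ DerivedCategory.Q) h).IsLocalization
      (qisSP X) := by
  let Φ := ObjectProperty.lift (fun K : DCoh.D X => DCoh.IsPerfect K) ((SPProp X).ι ⋙ DerivedCategory.Q) h
  have hΦ : (qisSP X).IsInvertedBy Φ := fun A B w hw => by
    haveI : IsIso ((ObjectProperty.ι (fun K : DCoh.D X => DCoh.IsPerfect K)).map (Φ.map w)) :=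
      (DerivedCategory.isIso_Q_map_iff_quasiIso _ _).2 hw
    exact isIso_of_reflects_iso _ (ObjectProperty.ι (fun K : DCoh.D X => DCoh.IsPerfect K))
  let Ψ := Localization.Construction.lift Φ hΦ
  have hfac : ∀ {A B : SP X} (f : A ⟶ B), (Ψ.map ((qisSP X).Q.map f)).hom = DerivedCategory.Q.map f.hom := by
    intro A B f
    have := Functor.congr_hom (Localization.Construction.fac Φ hΦ) f
    simp only [eqToHom_refl, Category.comp_id, Category.id_comp] at this
    exact congrArg (fun t => t.hom) this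
  haveI : Ψ.EssSurj := ⟨fun K => by
    obtain ⟨E, hE, ⟨e⟩⟩ := exists_isStrictlyPerfect_iso hX K.obj K.property
    exact ⟨(qisSP X).Q.obj ⟨E, hE⟩, ⟨ObjectProperty.isoMk _ e⟩⟩⟩
  haveI : Ψ.Full := ⟨fun {A B} a => by
    rcases A with ⟨⟨A⟩⟩
    rcases B with ⟨⟨B⟩⟩
    obtain ⟨G, g, k, hG, hg, hgk⟩ := exists_roof hX A.obj B.obj A.property B.property a.hom
    let g' : (⟨G, hG⟩ : SP X) ⟶ A := ObjectProperty.homMk g
    haveI : IsIso ((qisSP X).Q.map g') := MorphismProperty.Q_inverts (qisSP X) g' hg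
    refine ⟨inv ((qisSP X).Q.map g') ≫ (qisSP X).Q.map (ObjectProperty.homMk k : (⟨G, hG⟩ : SP X) ⟶ B), ?_⟩
    haveI : IsIso (Ψ.map ((qisSP X).Q.map g')) := inferInstance
    refine (cancel_epi (Ψ.map ((qisSP X).Q.map g'))).1 ?_
    rw [← Functor.map_comp]
    refine (congrArg Ψ.map (IsIso.hom_inv_id_assoc _ _)).trans ?_
    refine ObjectProperty.hom_ext _ ?_
    exact (hfac _).trans (hgk.symm.trans (congrArg (· ≫ a.hom) (hfac g').symm))⟩
  haveI : Ψ.Faithful := ⟨fun {A B} a b hab => by
    rcases A with ⟨⟨A⟩⟩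
    rcases B with ⟨⟨B⟩⟩
    obtain ⟨G, g, k, hg, ha⟩ := exists_roof_loc hX a
    obtain ⟨G', g', k', hg', hb⟩ := exists_roof_loc hX b
    obtain ⟨D, w, f, hw, he⟩ := exists_ore hX g g' hg'
    haveI : IsIso ((qisSP X).Q.map w) := MorphismProperty.Q_inverts (qisSP X) w hw
    haveI : IsIso ((qisSP X).Q.map g) := MorphismProperty.Q_inverts (qisSP X) g hg
    have ha' : (qisSP X).Q.map (w ≫ g) ≫ a = (qisSP X).Q.map (w ≫ k) := by
      rw [Functor.map_comp, Functor.map_comp, ← ha]; exact Category.assoc _ _ _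
    have hb' : (qisSP X).Q.map (w ≫ g) ≫ b = (qisSP X).Q.map (f ≫ k') := by
      rw [Functor.map_comp, Functor.map_comp, ← hb]
      exact (congrArg (· ≫ b) he).trans (Category.assoc _ _ _)
    haveI : IsIso ((qisSP X).Q.map (w ≫ g)) := by rw [Functor.map_comp]; infer_instance
    refine (cancel_epi ((qisSP X).Q.map (w ≫ g))).1 (ha'.trans ((map_eq_of_Q_eq hX _ _ ?_).trans hb'.symm))
    have h2 := congrArg (fun t => (Ψ.map ((qisSP X).Q.map (w ≫ g)) ≫ t).hom) hab
    simp only [← Functor.map_comp] at h2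
    exact (hfac _).symm.trans (((congrArg (fun t => (Ψ.map t).hom) ha').symm.trans
      (h2.trans (congrArg (fun t => (Ψ.map t).hom) hb'))).trans (hfac _))⟩
  haveI : Ψ.IsEquivalence := { }
  exact Functor.IsLocalization.of_equivalence_target (qisSP X).Q (qisSP X) Φ Ψ.asEquivalence
    (eqToIso (Localization.Construction.fac Φ hΦ))

end Groth.Agent.ResPerf
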