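import Groth.Agent.ResPerf.Cone
import Groth.Agent.DQCoh.TopCohom
import Groth.Agent.PerfGen.Compact

/-!
On schemes with the resolution property, perfect objects mapped to complexes of quasi-coherent modules are represented
by strictly perfect complexes mapped by chain maps.
-/

set_option autoImplicit false
set_option backward.isDefEq.respectTransparency false
set_option backward.isDefEq.respectTransparency.types false
set_option linter.style.haveILetI false
set_option maxHeartbeats 1000000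

universe u

open CategoryTheory Limits Pretriangulated AlgebraicGeometry HomologicalComplex ZeroObject

attribute [local instance] HasDerivedCategory.standard

noncomputable section

namespace Groth.Agent.ResPerf

open Groth.Agent.DQCoh (MIsoD IsAboveD RD rC rdIso)

variable {X : Scheme.{u}}

local notation "S1" => CategoryTheory.shiftFunctor (DCoh.D X) (1 : ℤ)

/-- an approximation of `σ` down to degree `n` -/
def Appr {K : DCoh.D X} {Z : CochainComplex X.Modules ℤ} (σ : K ⟶ DerivedCategory.Q.obj Z) (n : ℤ) : Prop :=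
  ∃ (G : CochainComplex X.Modules ℤ) (γ : DerivedCategory.Q.obj G ⟶ K) (h : G ⟶ Z), DCoh.IsStrictlyPerfect G ∧
    (∀ i, i < n → IsZero (G.X i)) ∧ MIsoD n γ ∧ DerivedCategory.Q.map h = γ ≫ σ

/-- the projection of a cone -/
abbrev coneProj {A G : CochainComplex X.Modules ℤ} (φ : A ⟶ G) : CochainComplex.mappingCone φ ⟶ A⟦(1 : ℤ)⟧ :=
  (CochainComplex.mappingCone.triangle φ).mor₃

/-- `E[-b]` two ways -/
def eSgl (X : Scheme.{u}) (b : ℤ) : sgl X (b + 1) ⋙ CategoryTheory.shiftFunctor _ (1 : ℤ) ≅ sgl X b :=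
  (CochainComplex.singleFunctors X.Modules).shiftIso 1 b (b + 1) (by lia)

/-- turning maps `E ⟶ C⟦b⟧` into maps `E[-b] ⟶ C` -/
lemma exists_shifted (b : ℤ) {C : DCoh.D X} (hC : ∀ i, b < i → IsZero (DCoh.HD C i)) (E : X.Modules)
    (u₀ : DCoh.inD X E ⟶ C⟦b⟧) (h : Epi ((DerivedCategory.homologyFunctor X.Modules 0).map u₀)) :
    ∃ u : (DerivedCategory.Q.obj ((sgl X (b + 1)).obj E))⟦(1 : ℤ)⟧ ⟶ C, MIsoD b u ∧ (IsIso u₀ → IsIso u) := by
  let A := (sgl X (b + 1)).obj E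
  let e : (((DerivedCategory.Q : _ ⥤ DCoh.D X).obj A)⟦(1 : ℤ)⟧)⟦b⟧ ≅ DCoh.inD X E :=
    (CategoryTheory.shiftFunctor _ b).mapIso ((S1).mapIso ((sglShift X (b + 1)).app E).symm) ≪≫
      (CategoryTheory.shiftFunctor _ b).mapIso ((shiftFunctorAdd' (DCoh.D X) (-(b + 1)) 1 (-b) (by lia)).app _).symm ≪≫
      (shiftFunctorCompIsoId (DCoh.D X) (-b) b (by lia)).app _
  obtain ⟨u, hu⟩ := (CategoryTheory.shiftFunctor (DCoh.D X) b).map_surjective (e.hom ≫ u₀)
  refine ⟨u, ⟨fun i hi => ?_, ?_⟩, fun h0 => ?_⟩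
  · refine IsZero.isIso ?_ (hC i hi) _
    refine IsZero.of_iso ?_ (((DerivedCategory.homologyFunctor X.Modules 0).shiftIso (1 : ℤ) i (i + 1) (by lia)).app _)
    exact (ShortComplex.isZero_homology_of_isZero_X₂ _ (isZero_sgl (b + 1) E (i + 1) (by omega))).of_iso
      (KFlat.hdIso A (i + 1))
  · let s : CategoryTheory.shiftFunctor (DCoh.D X) b ⋙ DerivedCategory.homologyFunctor X.Modules 0 ≅
        DerivedCategory.homologyFunctor X.Modules b :=
      (DerivedCategory.homologyFunctor X.Modules 0).shiftIso b 0 b (by lia)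
    refine ((MorphismProperty.epimorphisms X.Modules).arrow_mk_iso_iff
      (Arrow.isoMk (s.app _) (s.app _) (s.hom.naturality u).symm)).1 ?_
    change Epi ((DerivedCategory.homologyFunctor X.Modules 0).map ((CategoryTheory.shiftFunctor (DCoh.D X) b).map u))
    rw [hu, Functor.map_comp]
    exact epi_comp _ _
  · haveI : IsIso ((CategoryTheory.shiftFunctor (DCoh.D X) b).map u) := by rw [hu]; infer_instance
    exact isIso_of_reflects_iso u (CategoryTheory.shiftFunctor (DCoh.D X) b)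

/-- attaching a cell -/
theorem extend {K : DCoh.D X} {Z : CochainComplex X.Modules ℤ} (σ : K ⟶ DerivedCategory.Q.obj Z) (b : ℤ)
    {G : CochainComplex X.Modules ℤ} (hG : DCoh.IsStrictlyPerfect G) (hGz : ∀ i, i < b + 1 → IsZero (G.X i))
    {γ : DerivedCategory.Q.obj G ⟶ K} {h : G ⟶ Z} (hh : DerivedCategory.Q.map h = γ ≫ σ) {C : DCoh.D X} {g : K ⟶ C} {δ : C ⟶ (DerivedCategory.Q.obj G)⟦(1 : ℤ)⟧}
    (hS : Triangle.mk γ g δ ∈ distTriang (DCoh.D X)) {E : X.Modules} (hE : FlatMod.IsFinLocFree E)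
    (φ : (sgl X (b + 1)).obj E ⟶ G) (u : (DerivedCategory.Q.obj ((sgl X (b + 1)).obj E))⟦(1 : ℤ)⟧ ⟶ C)
    (hu : u ≫ δ = -(S1).map (DerivedCategory.Q.map φ)) (y : E ⟶ Z.X b)
    (hy : y ≫ Z.d b (b + 1) = (singleObjXSelf (ComplexShape.up ℤ) (b + 1) E).inv ≫ (φ ≫ h).f (b + 1)) :
    DCoh.IsStrictlyPerfect (CochainComplex.mappingCone φ) ∧
      (∀ i, i < b → IsZero ((CochainComplex.mappingCone φ).X i)) ∧
      ∃ (γ' : DerivedCategory.Q.obj (CochainComplex.mappingCone φ) ⟶ K) (h' : CochainComplex.mappingCone φ ⟶ Z)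
        (β : DerivedCategory.Q.obj (((sgl X (b + 1)).obj E)⟦(1 : ℤ)⟧) ⟶ DerivedCategory.Q.obj Z),
        (∀ n, MIsoD n u → MIsoD n γ') ∧
        DerivedCategory.Q.map h' - γ' ≫ σ = DerivedCategory.Q.map (coneProj φ) ≫ β := by
  let A := (sgl X (b + 1)).obj E
  refine ⟨DQCoh.isStrictlyPerfect_mappingCone φ (isStrictlyPerfect_sgl _ hE) hG, fun i hi =>
    IsZero.of_iso ((biprod_isZero_iff _ _).2 ⟨isZero_sgl (b + 1) E (i + 1) (by omega), hGz i (by omega)⟩)
      (HomologicalComplex.homotopyCofiber.XIsoBiprod φ i (i + 1) rfl), ?_⟩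
  have hT := DerivedCategory.mappingCone_triangle_distinguished φ
  obtain ⟨γ', hγ', hmi⟩ : ∃ γ' : DerivedCategory.Q.obj (CochainComplex.mappingCone φ) ⟶ K,
      DerivedCategory.Q.map (CochainComplex.mappingCone.inr φ) ≫ γ' = γ ∧ ∀ n, MIsoD n u → MIsoD n γ' :=
    exists_extend _ _ _ hT γ g δ hS u hu
  let α : CochainComplex.HomComplex.Cochain A Z (-1) :=
    CochainComplex.HomComplex.Cochain.fromSingleMk (p := b + 1) y (show b + 1 + (-1) = b by lia)
  have hα : CochainComplex.HomComplex.δ (-1) 0 α = CochainComplex.HomComplex.Cochain.ofHom (φ ≫ h) := by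
    erw [CochainComplex.HomComplex.Cochain.δ_fromSingleMk y (show b + 1 + (-1) = b by lia) 0 (b + 1) (by lia)]
    refine CochainComplex.HomComplex.Cochain.ext _ _ fun p q hpq => ?_
    obtain rfl : p = q := by lia
    by_cases hp : p = b + 1
    · subst hp
      rw [CochainComplex.HomComplex.Cochain.fromSingleMk_v, CochainComplex.HomComplex.Cochain.ofHom_v, hy]
      exact Iso.hom_inv_id_assoc _ _
    · exact (isZero_sgl (b + 1) E p hp).eq_of_src _ _
  let h' := CochainComplex.mappingCone.desc φ α h hα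
  have hd : DerivedCategory.Q.map (CochainComplex.mappingCone.inr φ) ≫ (DerivedCategory.Q.map h' - γ' ≫ σ) = 0 := by
    rw [Preadditive.comp_sub, ← Functor.map_comp, CochainComplex.mappingCone.inr_desc, sub_eq_zero, hh, reassoc_of% hγ']
  obtain ⟨β, hβ⟩ := Triangle.yoneda_exact₃ _ hT (DerivedCategory.Q.map h' - γ' ≫ σ) hd
  refine ⟨γ', h', ((DerivedCategory.Q : _ ⥤ DCoh.D X).commShiftIso (1 : ℤ)).hom.app A ≫ β, hmi, ?_⟩
  exact hβ.trans (Category.assoc _ _ _)

variable [CompactSpace X] [QuasiSeparatedSpace X] (hX : PerfAux.HasResolutionProperty X)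

include hX in
/-- one step down -/
theorem step {K : DCoh.D X} (hK : DCoh.IsPerfect K) (lo : ℤ) (hKlo : ∀ i, i < lo → IsZero (DCoh.HD K i))
    {Z : CochainComplex X.Modules ℤ} (hZ : ∀ i, Coh.IsQCoh (Z.X i)) (loZ : ℤ) (hloZ : ∀ i, i < loZ → IsZero (Z.X i))
    (σ : K ⟶ DerivedCategory.Q.obj Z) (b : ℤ) (H : Appr σ (b + 1)) : Appr σ b := by
  obtain ⟨G, γ, h, hG, hGz, hγ, hh⟩ := H
  obtain ⟨C, g, δ, hS⟩ := distinguished_cocone_triangle γ
  have hCp : DCoh.IsPerfect C := DQCoh.perfect_obj₃ _ hS (isPerfect_of_isStrictlyPerfect hG) hK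
  have hCz : IsAboveD (b + 1) C := (DQCoh.mIsoD_iff (b + 1) _ hS).1 hγ
  let e : ∀ i : ℤ, DCoh.HD (C⟦b⟧) i ≅ DCoh.HD C (b + i) := fun i =>
    ((DerivedCategory.homologyFunctor X.Modules 0).shiftIso b i (b + i) rfl).app C
  haveI : (C⟦b⟧).IsLE 0 := (DerivedCategory.isLE_iff _ _).2 fun i hi => (hCz (b + i) (by omega)).of_iso (e i)
  haveI : (C⟦b⟧).IsGE (min lo b - b - 2) := (DerivedCategory.isGE_iff _ _).2 fun i hi => by
    refine IsZero.of_iso ?_ (e i)
    exact (DerivedCategory.HomologySequence.exact₃ _ hS (b + i) (b + i + 1) rfl).isZero_of_both_zeros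
      ((hKlo (b + i) (by omega)).eq_of_src _ _)
      (((ShortComplex.isZero_homology_of_isZero_X₂ _ (hGz (b + i + 1) (by omega))).of_iso
        (KFlat.hdIso G _)).eq_of_tgt _ _)
  obtain ⟨E₀, u₀, hE₀, hu₀⟩ := exists_top_lift hX (C⟦b⟧)
    (PerfGen.isQCohD_shift (PerfGen.isQCohD_of_isPerfect hCp) b) (min lo b - b - 2)
    (QC.isFT_of_epi (e 0).inv (by
      rw [add_zero]
      exact DQCoh.isFT_top b C (DQCoh.pc_of_perfect hCp b) fun i hi => hCz i (by omega)))
  obtain ⟨u, hum, -⟩ := exists_shifted b (fun i hi => hCz i (by omega)) E₀ u₀ hu₀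
  obtain ⟨ψ, hψ⟩ := (S1).map_surjective (-(u ≫ δ))
  haveI : G.IsStrictlyGE (b + 1) := (CochainComplex.isStrictlyGE_iff G _).2 hGz
  obtain ⟨φ, hφ⟩ := exists_chain (b + 1) E₀ G ψ
  rw [← hφ] at hψ
  have hφγ : DerivedCategory.Q.map (φ ≫ h) = 0 := by
    have h0 : DerivedCategory.Q.map φ ≫ γ = 0 := (S1).map_injective (by
      rw [Functor.map_comp, Functor.map_zero, hψ, Preadditive.neg_comp, Category.assoc,
        show δ ≫ (S1).map γ = 0 from comp_distTriang_mor_zero₃₁ _ hS, comp_zero, neg_zero])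
    rw [Functor.map_comp, hh, ← Category.assoc, h0, zero_comp]
  obtain ⟨E₁, p, y, hE₁, hp, hy⟩ := exists_null hX Z hZ (b + 1) b rfl E₀ hE₀ (φ ≫ h) hφγ
  haveI := hp
  let π := (sgl X (b + 1)).map p
  have hu₁ : ((S1).map (DerivedCategory.Q.map π) ≫ u) ≫ δ = -(S1).map (DerivedCategory.Q.map (π ≫ φ)) := by
    rw [Category.assoc, show u ≫ δ = -(S1).map (DerivedCategory.Q.map φ) by rw [hψ, neg_neg], Preadditive.comp_neg,
      Functor.map_comp, Functor.map_comp]
  have hπm : MIsoD b ((S1).map (DerivedCategory.Q.map π) ≫ u) :=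
    DQCoh.mIsoD_comp ((mIsoD_shift_iff _ b (b + 1) rfl).2
      (mIsoD_Q_of_epi π (b + 1) (fun i => sgl_map_epi (b + 1) p i) fun i hi => sgl_map_isIso (b + 1) p i (by omega))) hum
  obtain ⟨hG₁, hGz₁, γ₁, h₁, β, hmi, hd⟩ := extend σ b hG hGz hh hS hE₁ (π ≫ φ) _ hu₁ y (by
    rw [hy, Category.assoc, comp_f π, single_map_f_self]
    simp [Category.assoc])
  obtain ⟨E₂, p₂, c, hE₂, hp₂, hc⟩ := exists_rep hX Z hZ loZ hloZ b E₁ hE₁ (DerivedCategory.Q.map ((eSgl X b).inv.app E₁) ≫ β)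
  haveI := hp₂
  let π₂ := (sgl X (b + 1)).map p₂
  let φ₁ := π ≫ φ
  let m := coneMap π₂ φ₁
  let z : ((sgl X (b + 1)).obj E₂)⟦(1 : ℤ)⟧ ⟶ Z := (eSgl X b).hom.app E₂ ≫ c
  have hz : DerivedCategory.Q.map z = DerivedCategory.Q.map (π₂⟦(1 : ℤ)⟧') ≫ β := by
    have hn : π₂⟦(1 : ℤ)⟧' ≫ (eSgl X b).hom.app E₁ = (eSgl X b).hom.app E₂ ≫ (sgl X b).map p₂ :=
      (eSgl X b).hom.naturality p₂
    rw [Functor.map_comp, hc, ← Category.assoc, ← Functor.map_comp, ← hn, Functor.map_comp, Category.assoc,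
      ← Functor.map_comp_assoc DerivedCategory.Q ((eSgl X b).hom.app E₁)]
    exact congrArg (fun t => DerivedCategory.Q.map (π₂⟦(1 : ℤ)⟧') ≫ t ≫ β)
      ((congrArg DerivedCategory.Q.map ((eSgl X b).hom_inv_id_app E₁)).trans
        (CategoryTheory.Functor.map_id _ _)) |>.trans (congrArg _ (Category.id_comp _))
  have hp3 : coneProj (π₂ ≫ φ₁) ≫ π₂⟦(1 : ℤ)⟧' =
      m ≫ coneProj φ₁ :=
    (CochainComplex.mappingCone.triangleMap (π₂ ≫ φ₁) φ₁ π₂ (𝟙 G) (Category.comp_id _)).comm₃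
  refine ⟨CochainComplex.mappingCone (π₂ ≫ φ₁), DerivedCategory.Q.map m ≫ γ₁,
    m ≫ h₁ - coneProj (π₂ ≫ φ₁) ≫ z,
    DQCoh.isStrictlyPerfect_mappingCone _ (isStrictlyPerfect_sgl _ hE₂) hG, fun i hi =>
      IsZero.of_iso ((biprod_isZero_iff _ _).2 ⟨isZero_sgl (b + 1) E₂ (i + 1) (by omega), hGz i (by omega)⟩)
        (HomologicalComplex.homotopyCofiber.XIsoBiprod (π₂ ≫ φ₁) i (i + 1) rfl),
    DQCoh.mIsoD_comp (mIsoD_Q_of_epi m b (fun i => epi_coneMap_f π₂ φ₁ (fun j => sgl_map_epi (b + 1) p₂ j) i)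
      fun i hi => ?_) (hmi b hπm), ?_⟩
  · haveI := epi_coneMap_f π₂ φ₁ (fun j => sgl_map_epi (b + 1) p₂ j) i
    haveI := mono_coneMap_f π₂ φ₁ i
      (haveI := sgl_map_isIso (b + 1) p₂ (i + 1) (by omega); inferInstance)
    exact isIso_of_mono_of_epi _
  · have h3 : DerivedCategory.Q.map (coneProj (π₂ ≫ φ₁)) ≫ DerivedCategory.Q.map (π₂⟦(1 : ℤ)⟧') =
        DerivedCategory.Q.map m ≫ DerivedCategory.Q.map (coneProj φ₁) :=
      (Functor.map_comp _ _ _).symm.trans ((congrArg DerivedCategory.Q.map hp3).trans (Functor.map_comp _ _ _))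
    rw [Functor.map_sub, Functor.map_comp, Functor.map_comp, hz, reassoc_of% h3, ← hd, Preadditive.comp_sub,
      sub_sub_cancel, Category.assoc]

end Groth.Agent.ResPerf
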